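import Cfsg.Agent.Mrg.Omega.F4Leaf.TSyl.Frame
import Cfsg.Agent.Mrg.Omega.F4Leaf.Exit.Dua
import Cfsg.Agent.Mrg.Omega.HOneTwo.Basic


/-!
# MemH2 (#21183): `T₁ ∈ Syl₂(N₁₂ ∩ N(V_l))` is Sylow in `N₁₂`: the instance of `SylI`

* `LemF S P ε i j` : LEMMA F;
* `inst` : `LI (zl S P) V_l (o2 P) (S ⊓ NN ε i j) T (pts ..) 0`;
* `loc` : `O₂(M) ≤ T`, `[O₂(M), V_l] = 1` for `M ≥ ⟨T, X⟩`;
* `odd_of` : `T` is Sylow in `C_G(r_ij)`; `exists_fr` : the frame `Fr`.
-/

set_option autoImplicit false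
set_option linter.dupNamespace false

namespace Cfsg.Agent.Omega.F4Leaf.Syl.Inst

open Subgroup Pointwise Cfsg Cfsg.Agent Cfsg.Agent.Omega.MinPar
open Cfsg.Agent.ZN (o2 zc zl)
open Cfsg.Agent.Omega.FrameFF (cv)
open Cfsg.Agent.Omega.S5.Def Cfsg.Agent.Omega.S5.Syl Cfsg.Agent.Omega.F4Leaf.Def
open Cfsg.Agent.Omega.F4Leaf.Pos Cfsg.Agent.Omega.F4Leaf.TSyl
open Cfsg.Agent.Omega.NSix.Base Cfsg.Agent.Omega.NSix.Basic Cfsg.Agent.Omega.NSix.FixApp
open Cfsg.Agent.Omega.NSix.RThree (acts_swap')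
open Cfsg.Agent.Omega.NSix.Zero (WP mem_WP)
open Cfsg.Agent.Omega.HT.LineOf (Ln ln pts dd)
open Cfsg.Agent.Omega.BTwo (BT XX QQ cj mem_normalizer_of_conj conj_mem_of_normalizer)
open Cfsg.Agent.Omega.F4Leaf.Syl.LocP
open Cfsg.Agent.MinSimple.VModule (o2_isPGroup o2_le le_o2 le_normalizer_o2 o2_le_of_sylow mem_zc zc_le
  le_normalizer_zl zl_comm zl_sq)

universe u

variable {G : Type u} [Group G] [Finite G] {S : Sylow 2 G} {P : Subgroup G} {m : ℕ} {A : Subgroup G}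
  {ε : (Fin (2 ^ m + 1) → ZMod 2) → G} {i j : Fin (2 ^ m + 1)}

/-- LEMMA F -/
def LemF (S : Sylow 2 G) (P : Subgroup G) {m : ℕ} (ε : (Fin (2 ^ m + 1) → ZMod 2) → G)
    (i j : Fin (2 ^ m + 1)) : Prop :=
  ∀ t ∈ NN ε i j, t * rr ε i 0 * t⁻¹ ∈ zl (S : Subgroup G) P →
    (∀ s ∈ (S : Subgroup G) ⊓ NN ε i j, s * (t * rr ε i 0 * t⁻¹) * s⁻¹ = t * rr ε i 0 * t⁻¹ ∨
      s * (t * rr ε i 0 * t⁻¹) * s⁻¹ = t * rr ε i 0 * t⁻¹ * rr ε i j) →
    t * rr ε i 0 * t⁻¹ = rr ε i 0 ∨ t * rr ε i 0 * t⁻¹ = rr ε j 0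

variable {T : Subgroup G}

/-- the normaliser of the point `0` -/
theorem norm_pt (h : Sit S P m A ε) (hij : i ≠ j) (hi : i ≠ 0) (hj : j ≠ 0) :
    normalizer (pts (rr ε i j) (rr ε i 0) 0 : Set G) = NN ε i j := by
  rw [(line h hij hi hj).normalizer_pts]
  rfl

theorem norm_pt' (h : Sit S P m A ε) (hij : i ≠ j) (hi : i ≠ 0) (hj : j ≠ 0) {s : Fin 3}
    {a b : Fin (2 ^ m + 1)} (e : dd (rr ε i j) (rr ε i 0) s = rr ε a b) :
    normalizer (pts (rr ε i j) (rr ε i 0) s : Set G) = NN ε a b := by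
  rw [(line h hij hi hj).normalizer_pts, e]
  rfl

/-- `v ε x`, `x i = x j = x 0`, commutes with `X` -/
theorem cen_X (h : Sit S P m A ε) (hij : i ≠ j) (hi : i ≠ 0) (hj : j ≠ 0)
    (b : BT (ln (line h hij hi hj)) (pts (rr ε i j) (rr ε i 0))) {v : G} (hv : v ∈ cv (S : Subgroup G) P)
    {x : Fin (2 ^ m + 1) → ZMod 2} (h1 : x i = x 0) (h2 : x j = x 0) :
    v * ε x ∈ centralizer (XX (ln (line h hij hi hj)) (pts (rr ε i j) (rr ε i 0)) : Set G) := by
  have hx : ∀ a, (a = i ∨ a = j ∨ a = 0) → x a = x 0 := by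
    rintro a (rfl | rfl | rfl)
    · exact h1
    · exact h2
    · rfl
  have key : XX (ln (line h hij hi hj)) (pts (rr ε i j) (rr ε i 0)) ≤ centralizer ({v * ε x} : Set G) := by
    refine iSup_le fun s => (b.W_le_Q s).trans fun q hq => ?_
    obtain ⟨a, c, d, hac, -, -, e, -, ha, hc⟩ := dd_cases h hij hi hj s
    have hq' : q ∈ o2 (NN ε a c) := by
      rw [← norm_pt' h hij hi hj e]
      exact hq
    rw [mem_centralizer_singleton_iff]
    have h5 := comm_Q h hac ((hx a ha).trans (hx c hc).symm) hq'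
    have h6 := h.comm_V0 hac hq' hv
    calc q * (v * ε x) = (q * v) * ε x := by group
      _ = v * (q * ε x) := by rw [h6]; group
      _ = v * ε x * q := by rw [h5]; group
  exact mem_centralizer_iff.2 fun y hy => mem_centralizer_singleton_iff.1 (key hy)

theorem relIndex_dvd {N : Type*} [Group N] [Finite N] (Q C : Subgroup N) [C.Normal] : Q.relIndex C ∣ Q.index := by
  have key : ∀ A B : Subgroup N, A ≤ B → Nat.card A * A.relIndex B = Nat.card B := by
    intro A B hAB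
    have := card_mul_index (A.subgroupOf B)
    rwa [Nat.card_congr (subgroupOfEquivOfLe hAB).toEquiv] at this
  have h1 := key C (Q ⊔ C) le_sup_right
  rw [relIndex_sup_right] at h1
  have h2 := key (Q ⊓ C) Q inf_le_left
  rw [inf_relIndex_left] at h2
  have h3 := key (Q ⊓ C) C inf_le_right
  rw [inf_relIndex_right] at h3
  have h4 := key Q (Q ⊔ C) le_sup_left
  have h5 : Q.relIndex (Q ⊔ C) = Q.relIndex C := by
    have hpos : 0 < Nat.card Q := Nat.card_pos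
    apply Nat.eq_of_mul_eq_mul_left hpos
    rw [h4, ← h1, ← h3, ← h2]
    ring
  rw [← h5]
  exact relIndex_dvd_index_of_le le_sup_left

/-- the intersection of a Sylow subgroup of `N` with a normal subgroup of `N` is Sylow -/
theorem not_dvd_relIndex_inf {P N M : Subgroup G} (hMN : M ≤ N)
    (hM : ∀ n ∈ N, ∀ c ∈ M, n * c * n⁻¹ ∈ M) (h : ¬ 2 ∣ (P ⊓ N).relIndex N) :
    ¬ 2 ∣ (P ⊓ M).relIndex M := by
  have hnorm : (M.subgroupOf N).Normal := by
    refine ⟨fun c hc n => ?_⟩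
    rw [mem_subgroupOf] at hc ⊢
    exact hM n n.2 c hc
  have h1 : (P ⊓ N).relIndex M ∣ (P ⊓ N).relIndex N := by
    have e1 : (P ⊓ N).relIndex M = ((P ⊓ N).subgroupOf N).relIndex (M.subgroupOf N) := by
      rw [relIndex_subgroupOf hMN]
    have e2 : (P ⊓ N).relIndex N = ((P ⊓ N).subgroupOf N).index := rfl
    rw [e1, e2]
    exact relIndex_dvd _ _
  intro h'
  apply h
  refine dvd_trans ?_ h1
  have : (P ⊓ M).relIndex M = (P ⊓ N).relIndex M := by
    rw [← inf_relIndex_right (P ⊓ N) M, inf_assoc, inf_eq_right.mpr hMN]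
  rw [← this]
  exact h'

/-- `O₂(P)` is Sylow in `C_G(V)` -/
theorem odd_Q (h : Sit S P m A ε) : ¬ 2 ∣ (o2 P).relIndex (centralizer (zl (S : Subgroup G) P : Set G)) := by
  rw [← h.par.inf_centralizer S h.c2]
  refine not_dvd_relIndex_inf (N := normalizer (zl (S : Subgroup G) P : Set G)) (centralizer_le_normalizer _)
    (fun n hn c hc => ?_) ?_
  · exact conj_mem_of_normalizer (BTwo.normalizer_le_normalizer_centralizer _ hn) hc
  · rw [inf_eq_left.2 (h.par.le.trans (le_normalizer_zl _ _))]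
    exact MinSimple.Basic.not_dvd_relIndex S (h.par.le.trans (le_normalizer_zl _ _))

/-- LEMMA F for a point of the line -/
theorem lemF_pt (h : Sit S P m A ε) (hij : i ≠ j) (hi : i ≠ 0) (hj : j ≠ 0) (hF : LemF S P ε i j) {t : G}
    (ht : t ∈ NN ε i j) {s : Fin 3} (hs : s ≠ 0)
    (h1 : cj t (pts (rr ε i j) (rr ε i 0) s) ≤ zl (S : Subgroup G) P)
    (h2 : ∀ u ∈ (S : Subgroup G) ⊓ NN ε i j, ∀ x ∈ cj t (pts (rr ε i j) (rr ε i 0) s),
      u * x * u⁻¹ * x⁻¹ ∈ pts (rr ε i j) (rr ε i 0) 0) :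
    t ∈ normalizer (ln (line h hij hi hj) : Set G) := by
  have hL := line h hij hi hj
  have hE := h.split.even
  have hr2 := rr_sq hE i j
  have htr := mem_NN'.1 ht
  obtain ⟨f, hf⟩ : ∃ f, f = t * rr ε i 0 * t⁻¹ := ⟨_, rfl⟩
  have hrV : rr ε i j ∈ zl (S : Subgroup G) P := h.split.A_le (rr_mem hE i j)
  -- the conjugate of the point `s`
  obtain ⟨f', hf'⟩ : ∃ f', f' = t * dd (rr ε i j) (rr ε i 0) s * t⁻¹ := ⟨_, rfl⟩
  have hf'm : f' ∈ cj t (pts (rr ε i j) (rr ε i 0) s) := by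
    rw [hf']
    exact BTwo.conj_mem_cj ((hL.mem_pts).2 (Or.inr rfl))
  have hf'V := h1 hf'm
  have hff : f = f' ∨ f = rr ε i j * f' := by
    rw [hf, hf']
    fin_cases s
    · exact absurd rfl hs
    · left; rfl
    · right
      change t * rr ε i 0 * t⁻¹ = rr ε i j * (t * (rr ε i j * rr ε i 0) * t⁻¹)
      have e : t * (rr ε i j * rr ε i 0) * t⁻¹ = (t * rr ε i j * t⁻¹) * (t * rr ε i 0 * t⁻¹) := by group
      rw [e, htr, ← mul_assoc, hr2, one_mul]
  have hfV : f ∈ zl (S : Subgroup G) P := by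
    rcases hff with e | e
    · rw [e]; exact hf'V
    · rw [e]; exact mul_mem hrV hf'V
  have h3 : ∀ u ∈ (S : Subgroup G) ⊓ NN ε i j, u * f * u⁻¹ = f ∨ u * f * u⁻¹ = f * rr ε i j := by
    intro u hu
    have hur := mem_NN'.1 hu.2
    have h4 : u * f' * u⁻¹ = f' ∨ u * f' * u⁻¹ = f' * rr ε i j := by
      rcases (hL.mem_pts).1 (h2 u hu f' hf'm) with e | e
      · left
        calc u * f' * u⁻¹ = u * f' * u⁻¹ * f'⁻¹ * f' := by group
          _ = f' := by rw [e, one_mul]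
      · right
        rw [h.V_comm hf'V hrV]
        calc u * f' * u⁻¹ = u * f' * u⁻¹ * f'⁻¹ * f' := by group
          _ = rr ε i j * f' := by rw [e]; rfl
    rcases hff with e | e
    · rw [e]; exact h4
    · rw [e]
      have e2 : u * (rr ε i j * f') * u⁻¹ = rr ε i j * (u * f' * u⁻¹) := by
        calc u * (rr ε i j * f') * u⁻¹ = (u * rr ε i j * u⁻¹) * (u * f' * u⁻¹) := by group
          _ = _ := by rw [hur]
      rcases h4 with e3 | e3
      · left; rw [e2, e3]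
      · right; rw [e2, e3, mul_assoc]
  have hfL : f ∈ ln hL := by
    rw [hf] at hfV h3 ⊢
    rcases hF t ht hfV h3 with e | e
    · rw [e]; exact hL.dd_mem 1
    · rw [e, ← dd_two h i j]; exact hL.dd_mem 2
  refine mem_normalizer_of_conj ?_
  rintro x (rfl | ⟨k, rfl⟩)
  · rw [mul_one, mul_inv_cancel]; exact one_mem _
  · fin_cases k
    · change t * rr ε i j * t⁻¹ ∈ _
      rw [htr]
      exact hL.dd_mem 0
    · change t * rr ε i 0 * t⁻¹ ∈ _
      rw [← hf]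
      exact hfL
    · change t * (rr ε i j * rr ε i 0) * t⁻¹ ∈ _
      have e : t * (rr ε i j * rr ε i 0) * t⁻¹ = (t * rr ε i j * t⁻¹) * (t * rr ε i 0 * t⁻¹) := by group
      rw [e, htr, ← hf]
      exact mul_mem (hL.dd_mem 0) hfL

/-- `C_V(T) = ⟨r_ij⟩ × C_{C_V(T)}(X)` -/
theorem split_T (h : Sit S P m A ε) (hij : i ≠ j) (hi : i ≠ 0) (hj : j ≠ 0)
    (b : BT (ln (line h hij hi hj)) (pts (rr ε i j) (rr ε i 0)))
    (hd : ∃ s ∈ (S : Subgroup G), Acts ε s (Equiv.swap i j)) {z : G} (hz : z ∈ zl (S : Subgroup G) P)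
    (hT : ∀ s ∈ (S : Subgroup G) ⊓ NN ε i j, s * z = z * s) :
    ∃ r ∈ pts (rr ε i j) (rr ε i 0) 0,
      ∃ c ∈ centralizer (XX (ln (line h hij hi hj)) (pts (rr ε i j) (rr ε i 0)) : Set G), z = r * c := by
  have hE := h.split.even
  obtain ⟨s, hs, ha⟩ := hd
  have hsN : s ∈ NN ε i j := by
    rw [mem_NN', rr_conj ha, Equiv.swap_apply_left, Equiv.swap_apply_right, rr_symm hE]
  obtain ⟨v, hv, a, haA, rfl⟩ := h.mul_eq hz
  obtain ⟨x, rfl⟩ := hE.surj a haA
  have h1 := hT s ⟨hs, hsN⟩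
  have h2 := h.V0_comm hv (h.par.le hs)
  have h3 : s * ε x = ε x * s := by
    apply mul_left_cancel (a := v)
    calc v * (s * ε x) = (s * v) * ε x := by rw [h2]; group
      _ = s * (v * ε x) := by group
      _ = v * (ε x * s) := by rw [h1]; group
  have hxij : x i = x j := by
    by_contra hne
    have h4 := (acts_swap' hE ha x).2 hne
    rw [h3, mul_inv_cancel_right] at h4
    exact rr_ne_one hE h.three hij (left_eq_mul.1 h4)
  by_cases hx0 : x i = x 0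
  · exact ⟨1, one_mem _, v * ε x, cen_X h hij hi hj b hv hx0 (hxij ▸ hx0), by rw [one_mul]⟩
  · refine ⟨rr ε i j, ((line h hij hi hj).mem_pts).2 (Or.inr rfl),
      v * ε (x + (Pi.single i 1 + Pi.single j 1)), cen_X h hij hi hj b hv ?_ ?_, ?_⟩
    · have hz2 : ∀ a b : ZMod 2, a ≠ b → a + 1 = b := by decide
      rw [Pi.add_apply, Pi.add_apply, Pi.add_apply, Pi.add_apply, Pi.single_eq_same,
        Pi.single_eq_of_ne hij, Pi.single_eq_of_ne hi.symm, Pi.single_eq_of_ne hj.symm, add_zero, add_zero, add_zero]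
      exact hz2 _ _ hx0
    · have hz2 : ∀ a b : ZMod 2, a ≠ b → a + 1 = b := by decide
      rw [Pi.add_apply, Pi.add_apply, Pi.add_apply, Pi.add_apply, Pi.single_eq_same,
        Pi.single_eq_of_ne hij.symm, Pi.single_eq_of_ne hi.symm, Pi.single_eq_of_ne hj.symm, add_zero, add_zero,
        zero_add]
      exact hz2 _ _ (hxij ▸ hx0)
    · have hr : rr ε i j = ε (Pi.single i 1 + Pi.single j 1) := by rw [hE.add]; rfl
      rw [hE.add, ← hr]
      have hrV : rr ε i j ∈ zl (S : Subgroup G) P := h.split.A_le (rr_mem hE i j)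
      have h5 := h.V_comm hrV hz
      calc v * ε x = v * ε x * (rr ε i j * rr ε i j) := by rw [rr_sq hE, mul_one]
        _ = (v * ε x * rr ε i j) * rr ε i j := by group
        _ = rr ε i j * (v * ε x) * rr ε i j := by rw [h5]
        _ = rr ε i j * (v * (ε x * rr ε i j)) := by group

/-- **the instance of (I)** -/
theorem inst (b : Base S P m A ε i j T) (hP : Part A ε i j)
    (hs : ¬ 2 ∣ T.relIndex (NN ε i j ⊓ normalizer (ln (line b.sit b.ij b.i0 b.j0) : Set G))) (hF : LemF S P ε i j) :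
    LI (zl (S : Subgroup G) P) (ln (line b.sit b.ij b.i0 b.j0)) (o2 P) ((S : Subgroup G) ⊓ NN ε i j) T
      (pts (rr ε i j) (rr ε i 0)) 0 where
  toBT := bt b.sit b.ij b.i0 b.j0 hP
  card_R := (line b.sit b.ij b.i0 b.j0).card_pts
  T_p := b.p
  T_R := by rw [norm_pt b.sit b.ij b.i0 b.j0]; exact b.leN
  T_L := b.nrm
  T_odd := by rw [norm_pt b.sit b.ij b.i0 b.j0]; exact hs
  T_le := b.le
  Q_T := le_inf b.sit.o2_le_S fun q hq => mem_NN.2
    ((mem_zc.1 (b.sit.V_le_zc (b.sit.split.A_le (rr_mem b.sit.split.even i j)))).2.1 q hq)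
  Q_cen := fun g hg => b.sit.mem_o2_of_cent fun q hq => (mem_centralizer_iff.1 hg q hq).symm
  zcQ := b.sit.omega_one b.mov
  L_le := (line_le b.sit b.ij b.i0 b.j0).trans b.sit.split.A_le
  QV' := by
    intro g hg v hv
    have hg' : g ∈ o2 (NN ε i j) := by rw [← norm_pt b.sit b.ij b.i0 b.j0]; exact hg
    rw [(line b.sit b.ij b.i0 b.j0).mem_pts]
    rcases b.sit.conj_V b.ij hg' hv with e | e
    · left; rw [e, mul_inv_cancel]
    · right
      rw [e, b.sit.V_comm hv (b.sit.split.A_le (rr_mem b.sit.split.even i j)), mul_inv_cancel_right]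
      rfl
  F := by
    intro t ht s hs0 h1 h2
    rw [norm_pt b.sit b.ij b.i0 b.j0] at ht
    exact lemF_pt b.sit b.ij b.i0 b.j0 hF ht hs0 h1 h2
  char2 := b.sit.c2
  Q_p := o2_isPGroup _
  QN := by
    intro s g hg
    obtain ⟨a, c, d, hac, -, -, e, -⟩ := dd_cases b.sit b.ij b.i0 b.j0 s
    have hg' : g ∈ o2 (NN ε a c) := by rw [← norm_pt' b.sit b.ij b.i0 b.j0 e]; exact hg
    exact le_normalizer_o2 P (b.sit.o2_le_P hac hg')
  VQ := by
    intro s v hv
    obtain ⟨a, c, d, hac, -, -, e, -⟩ := dd_cases b.sit b.ij b.i0 b.j0 s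
    have h1 := b.sit.V_le hac hv
    rw [← norm_pt' b.sit b.ij b.i0 b.j0 e] at h1
    exact h1
  Q_syl := odd_Q b.sit
  G' := by
    intro x hx hc s hs0 hxs
    have hL := line b.sit b.ij b.i0 b.j0
    have hE := b.sit.split.even
    by_contra hne
    obtain ⟨v, hv, hv1⟩ : ∃ v ∈ zl (S : Subgroup G) P, x * v * x⁻¹ ≠ v := by
      by_contra hno
      push Not at hno
      exact hne (mem_centralizer_iff.2 fun v hv => (mul_inv_eq_iff_eq_mul.1 (hno v hv)).symm)
    have hmov : Exit.Dua.Mov ε := by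
      intro a c hac
      obtain ⟨w, hw, h1⟩ := b.sit.mov b.mov hac
      exact ⟨w, b.sit.fac.ww b.sit.c2 b.sit.three hac hw, h1⟩
    obtain ⟨a, c, hac, e, hacts⟩ := Exit.Dua.Sit.transv b.sit hmov hx (c := rr ε i j) (fun w hw => by
      rcases (hL.mem_pts).1 (hc w hw) with e | e
      · left
        calc x * w * x⁻¹ = x * w * x⁻¹ * w⁻¹ * w := by group
          _ = w := by rw [e, one_mul]
      · right
        rw [b.sit.V_comm hw (b.sit.split.A_le (rr_mem hE i j))]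
        calc x * w * x⁻¹ = x * w * x⁻¹ * w⁻¹ * w := by group
          _ = rr ε i j * w := by rw [e]; rfl) ⟨v, hv, hv1⟩
    have h5 : 5 ≤ 2 ^ m + 1 := Exit.Dua.Sit.five b.sit
    have hact : Acts ε x (Equiv.swap i j) := by
      rcases Exit.Tr.pair_eq hE h5 b.ij e with ⟨rfl, rfl⟩ | ⟨rfl, rfl⟩
      · exact hacts
      · rw [Equiv.swap_comm]; exact hacts
    -- `x` moves the point `s`
    have h6 : x * dd (rr ε i j) (rr ε i 0) s * x⁻¹ = dd (rr ε i j) (rr ε i 0) s := by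
      have h7 := (hL.mem_pts).1 (conj_mem_of_normalizer hxs ((hL.mem_pts).2 (Or.inr rfl)))
      rcases h7 with h7 | h7
      · exact absurd (conj_eq_one_iff.1 h7) (hL.dd_ne s)
      · exact h7
    have h8 : ∀ k, k = i ∨ k = j → x * rr ε k 0 * x⁻¹ ≠ rr ε k 0 := by
      intro k hk h9
      rw [rr_conj hact, Equiv.swap_apply_of_ne_of_ne b.i0.symm b.j0.symm] at h9
      rcases hk with rfl | rfl
      · rw [Equiv.swap_apply_left] at h9
        refine rr_ne_one hE b.sit.three b.ij ?_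
        rw [← rr_add hE _ 0 j, rr_symm hE 0 j, h9, rr_sq hE]
      · rw [Equiv.swap_apply_right] at h9
        refine rr_ne_one hE b.sit.three b.ij ?_
        rw [← rr_add hE _ 0 k, rr_symm hE 0 k, h9, rr_sq hE]
    fin_cases s
    · exact hs0 rfl
    · exact h8 i (Or.inl rfl) h6
    · refine h8 j (Or.inr rfl) ?_
      rw [← dd_two b.sit i j]
      exact h6
  spl := fun z hz hT => split_T b.sit b.ij b.i0 b.j0 (bt b.sit b.ij b.i0 b.j0 hP) b.duad hz hT

/-- **(loc')** -/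
theorem loc (b : Base S P m A ε i j T) (hP : Part A ε i j)
    (hs : ¬ 2 ∣ T.relIndex (NN ε i j ⊓ normalizer (ln (line b.sit b.ij b.i0 b.j0) : Set G))) (hF : LemF S P ε i j)
    {M : Subgroup G} (hT : T ≤ M) (hX : XX (ln (line b.sit b.ij b.i0 b.j0)) (pts (rr ε i j) (rr ε i 0)) ≤ M) :
    o2 M ≤ T ∧ o2 M ≤ centralizer (ln (line b.sit b.ij b.i0 b.j0) : Set G) :=
  (inst b hP hs hF).toLD.loc hT hX

/-- **(I)** `T` is Sylow in `C_G(r_ij)` -/
theorem odd_of (b : Base S P m A ε i j T) (hP : Part A ε i j)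
    (hs : ¬ 2 ∣ T.relIndex (NN ε i j ⊓ normalizer (ln (line b.sit b.ij b.i0 b.j0) : Set G))) (hF : LemF S P ε i j)
    (hcv : cv (S : Subgroup G) P ≠ ⊥) : ¬ 2 ∣ T.relIndex (NN ε i j) := by
  rw [← norm_pt b.sit b.ij b.i0 b.j0]
  refine (inst b hP hs hF).odd S ?_
  rw [b.sit.split.card_zc b.sit.c2 b.sit.par (by have := b.sit.m2; omega)]
  have h1 : 1 < Nat.card (cv (S : Subgroup G) P) := by
    rw [one_lt_card_iff_ne_bot]
    exact hcv
  omega

/-- **the frame `Fr`** -/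
theorem exists_fr (h : Sit S P m A ε) (hm : 3 ≤ m) (hij : i ≠ j) (hi : i ≠ 0) (hj : j ≠ 0)
    (hd : ∃ s ∈ (S : Subgroup G), Acts ε s (Equiv.swap i j))
    (hmov : ∃ i j, i ≠ j ∧ ∃ g ∈ WP ε i j, ¬ g ∈ centralizer (A : Set G)) (hP : Part A ε i j) (hF : LemF S P ε i j)
    (hcv : cv (S : Subgroup G) P ≠ ⊥) : ∃ T, Fr S P m A ε i j T := by
  have hE := h.split.even
  have hL := line h hij hi hj
  have hle : (S : Subgroup G) ⊓ NN ε i j ≤ NN ε i j ⊓ normalizer (ln (line h hij hi hj) : Set G) := by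
    rintro s ⟨hs, hsN⟩
    refine ⟨hsN, mem_normalizer_of_conj ?_⟩
    obtain ⟨σ, hσ⟩ := hE.perm s (h.par.le hs)
    have h0 := h.split.fix0 s hs σ hσ
    have hsr := mem_NN'.1 hsN
    have h1 : s * rr ε i 0 * s⁻¹ ∈ ln (line h hij hi hj) := by
      rw [rr_conj hσ, h0]
      have h2 := hsr
      rw [rr_conj hσ] at h2
      rcases Exit.Tr.pair_eq hE (Exit.Dua.Sit.five h) hij h2.symm with ⟨e, -⟩ | ⟨e, -⟩
      · rw [e]; exact hL.dd_mem 1
      · rw [e, ← dd_two h i j]; exact hL.dd_mem 2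
    rintro x (rfl | ⟨k, rfl⟩)
    · rw [mul_one, mul_inv_cancel]; exact one_mem _
    · fin_cases k
      · change s * rr ε i j * s⁻¹ ∈ _
        rw [hsr]
        exact hL.dd_mem 0
      · exact h1
      · change s * (rr ε i j * rr ε i 0) * s⁻¹ ∈ _
        have e : s * (rr ε i j * rr ε i 0) * s⁻¹ = (s * rr ε i j * s⁻¹) * (s * rr ε i 0 * s⁻¹) := by group
        rw [e, hsr]
        exact mul_mem (hL.dd_mem 0) h1
  obtain ⟨T, h1, h2, h3, h4⟩ := HT.exists_syl (S.isPGroup'.to_le inf_le_left) hle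
  have b : Base S P m A ε i j T := ⟨h, hm, hij, hi, hj, hd, hmov, h1, h2.trans inf_le_left, h2.trans inf_le_right, h3⟩
  exact ⟨T, b, hP, odd_of b hP h4 hF hcv⟩

end Cfsg.Agent.Omega.F4Leaf.Syl.Inst
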