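import Cfsg.Agent.Mrg.Omega.F4Leaf.Big.OneZ
import Cfsg.Agent.Mrg.Omega.NOne.LemmaT
import Cfsg.Agent.Mrg.Omega.NO3b.UMethod
import Cfsg.Agent.Mrg.Omega.VP
import Cfsg.Agent.Mrg.Omega.BTwo.Split

section


/-!
# LeafF4, `m ≥ 2`, any `V₀` : `(H2)` or LE (#21183 (I') of helper758, end #21356 (a)-(d) of helper107)

`Fam A ε W` : `A ≤ W i j ≤ WP ε i j`, `W i j` normal in `N_ij = C_G(r_ij)`, inducing the transposition `(i j)`
(e.g. `WP ε` or `⟨A ^ N_ij⟩`).

`le_one` : `K` a 2-group normalised by `N_ij`, every `u ∈ K` has `u` or `r_ij u` in `C(W i o) ∩ C(W j o)`.  Then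
`(H2)` or `K ≤ ⟨r_ij⟩`.
-/

set_option autoImplicit false
set_option linter.dupNamespace false

namespace Cfsg.Agent.Omega.F4Leaf.Syl.LEone

open Subgroup Pointwise Cfsg Cfsg.Agent Cfsg.Agent.Omega.MinPar
open Cfsg.Agent.ZN (o2 zc zl)
open Cfsg.Agent.Omega.FrameFF (cv)
open Cfsg.Agent.Omega.S5.Def Cfsg.Agent.Omega.S5.Syl Cfsg.Agent.Omega.F4Leaf.Def
open Cfsg.Agent.Omega.S5.SymBig (H2)
open Cfsg.Agent.Omega.F4Leaf.Pos Cfsg.Agent.Omega.F4Leaf.Facts
open Cfsg.Agent.Omega.NSix.Base Cfsg.Agent.Omega.NSix.Basic Cfsg.Agent.Omega.NSix.FixApp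
open Cfsg.Agent.Omega.NSix.Zero (WP mem_WP WP_norm WP_conj o2_NN_conj)
open Cfsg.Agent.MinSimple.VModule (o2_isPGroup o2_le le_o2 le_normalizer_o2)

universe u

variable {G : Type u} [Group G]

/-- `A ≤ W i j ≤ WP ε i j`, `W i j` normal in `N_ij`, inducing `(i j)` -/
structure Fam {n : ℕ} (A : Subgroup G) (ε : (Fin n → ZMod 2) → G) (W : Fin n → Fin n → Subgroup G) : Prop where
  Ale : ∀ i j, i ≠ j → A ≤ W i j
  wn : ∀ i j, i ≠ j → ∀ g ∈ NN ε i j, ∀ x ∈ W i j, g * x * g⁻¹ ∈ W i j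
  wc : ∀ (g : G) (σ : Equiv.Perm (Fin n)), Acts ε g σ → ∀ i j, i ≠ j → ∀ x ∈ W i j, g * x * g⁻¹ ∈ W (σ i) (σ j)
  le : ∀ i j, i ≠ j → W i j ≤ WP ε i j
  mov : ∀ i j, i ≠ j → ∃ w ∈ W i j, Acts ε w (Equiv.swap i j)

/-- `C(W i k) ∩ C(W j k)` -/
def CC {n : ℕ} (W : Fin n → Fin n → Subgroup G) (i j k : Fin n) : Subgroup G :=
  centralizer (W i k : Set G) ⊓ centralizer (W j k : Set G)

theorem mem_CC {n : ℕ} {W : Fin n → Fin n → Subgroup G} {i j k : Fin n} {x : G} :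
    x ∈ CC W i j k ↔ (∀ w ∈ W i k, w * x = x * w) ∧ ∀ w ∈ W j k, w * x = x * w :=
  and_congr mem_centralizer_iff mem_centralizer_iff

theorem norm_of {H L : Subgroup G} (h : ∀ g ∈ L, ∀ x ∈ H, g * x * g⁻¹ ∈ H) : L ≤ normalizer (H : Set G) := by
  intro g hg
  rw [mem_normalizer_iff]
  refine fun x => ⟨h g hg x, fun hx => ?_⟩
  have h1 := h g⁻¹ (inv_mem hg) _ hx
  have e : g⁻¹ * (g * x * g⁻¹) * g⁻¹⁻¹ = x := by group
  rwa [e] at h1

theorem conj_of {H : Subgroup G} {g x : G} (h : g ∈ normalizer (H : Set G)) (hx : x ∈ H) : g * x * g⁻¹ ∈ H :=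
  (mem_normalizer_iff.mp h x).mp hx

theorem conj_of' {H : Subgroup G} {g x : G} (h : g ∈ normalizer (H : Set G)) (hx : x ∈ H) : g⁻¹ * x * g ∈ H := by
  have := conj_of (inv_mem h) hx
  rwa [inv_inv] at this

variable [Finite G] {S : Sylow 2 G} {P : Subgroup G} {m : ℕ} {A : Subgroup G}
  {ε : (Fin (2 ^ m + 1) → ZMod 2) → G} {W : Fin (2 ^ m + 1) → Fin (2 ^ m + 1) → Subgroup G}

omit [Finite G] in
theorem swap_fix {ι : Type*} [DecidableEq ι] {i k o : ι} (ki : k ≠ i) (oi : o ≠ i) : Equiv.swap k o i = i :=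
  Equiv.swap_apply_of_ne_of_ne ki.symm oi.symm

section

variable (h : Sit S P m A ε) (f : Fam A ε W)
include h f

omit [Finite G] h in
theorem conj_CC {i j k k' : Fin (2 ^ m + 1)} {p : G} {σ : Equiv.Perm (Fin (2 ^ m + 1))} (hσ : Acts ε p σ)
    (hi : σ i = i) (hj : σ j = j) (hk : σ k = k') (ki : k ≠ i) (kj : k ≠ j) {x : G}
    (hx : p * x * p⁻¹ ∈ CC W i j k') : x ∈ CC W i j k := by
  rw [mem_CC] at hx ⊢
  have key : ∀ a, σ a = a → a ≠ k → (∀ w ∈ W a k', w * (p * x * p⁻¹) = p * x * p⁻¹ * w) →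
      ∀ w ∈ W a k, w * x = x * w := by
    intro a ha hak h1 w hw
    have h2 := f.wc p σ hσ a k hak w hw
    rw [ha, hk] at h2
    have h3 := h1 _ h2
    calc w * x = p⁻¹ * (p * w * p⁻¹ * (p * x * p⁻¹)) * p := by group
      _ = p⁻¹ * (p * x * p⁻¹ * (p * w * p⁻¹)) * p := by rw [h3]
      _ = x * w := by group
  exact ⟨key i hi ki.symm hx.1, key j hj kj.symm hx.2⟩

omit f in
theorem A_le_Q {a b : Fin (2 ^ m + 1)} (hab : a ≠ b) : A ≤ o2 (NN ε a b) := h.split.A_le.trans (h.V_le hab)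

omit [Finite G] h f in
theorem NN_of_acts {p : G} {σ : Equiv.Perm (Fin (2 ^ m + 1))} (hσ : Acts ε p σ) {i j : Fin (2 ^ m + 1)}
    (hi : σ i = i) (hj : σ j = j) : p ∈ NN ε i j := by
  rw [mem_NN', rr_conj hσ, hi, hj]

/-- `K ≤ Q_ab` -/
theorem le_Q {i j a b : Fin (2 ^ m + 1)} (hab : a ≠ b) {K : Subgroup G} (hK2 : IsPGroup 2 K)
    (hKn : NN ε i j ≤ normalizer (K : Set G))
    (hd : ∀ u ∈ K, u ∈ centralizer (W a b : Set G) ∨ rr ε i j * u ∈ centralizer (W a b : Set G))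
    (hr : rr ε i j ∈ K) : K ≤ o2 (NN ε a b) := by
  have hE := h.split.even
  set M := centralizer (W a b : Set G) with hM
  have hMA : M ≤ centralizer (A : Set G) := centralizer_le (f.Ale a b hab)
  have hMij : M ≤ NN ε i j := fun x hx =>
    mem_NN.mpr (mem_centralizer_iff.mp (hMA hx) _ (rr_mem hE i j)).symm
  have hMab : M ≤ NN ε a b := fun x hx =>
    mem_NN.mpr (mem_centralizer_iff.mp (hMA hx) _ (rr_mem hE a b)).symm
  have hWn : NN ε a b ≤ normalizer (W a b : Set G) := norm_of (f.wn a b hab)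
  have hMn : NN ε a b ≤ normalizer (M : Set G) := fun g hg => NSix.End.Six.norm_cen _ (hWn hg)
  have h1 : K ⊓ M ≤ o2 M := by
    refine le_o2 inf_le_right (hK2.to_le inf_le_left) ?_
    refine norm_of fun g hg x hx => ⟨conj_of (hKn (hMij hg)) hx.1, M.mul_mem (M.mul_mem hg hx.2) (M.inv_mem hg)⟩
  have h2 : o2 M ≤ o2 (NN ε a b) := NO3b.UMethod.o2_le_o2_of_normal hMab hMn
  have hrQ : rr ε i j ∈ o2 (NN ε a b) := A_le_Q h hab (rr_mem hE i j)
  intro u hu
  rcases hd u hu with h3 | h3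
  · exact h2 (h1 ⟨hu, h3⟩)
  · have h4 := h2 (h1 ⟨mul_mem hr hu, h3⟩)
    have h5 := mul_mem hrQ h4
    rwa [← mul_assoc, rr_sq hE, one_mul] at h5

omit f in
/-- (H2) from one pair -/
theorem h2_of {i j : Fin (2 ^ m + 1)} (hij : i ≠ j)
    (h1 : ∀ k l, k ≠ l → k ≠ i → k ≠ j → l ≠ i → l ≠ j → UU ε i j ≤ o2 (NN ε k l)) : H2 ε := by
  have hE := h.split.even
  intro i' j' k l hij' hkl hik hil hjk hjl u hu
  obtain ⟨σ, hi, hj, -⟩ := exists_perm hij' hij
  obtain ⟨p, -, hσ⟩ := hE.full σ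
  have h2 := UU_conj hσ hu
  rw [hi, hj] at h2
  have e : ∀ a, σ⁻¹ (σ a) = a := fun a => σ.symm_apply_apply a
  have h3 := h1 (σ k) (σ l) (fun h0 => hkl (σ.injective h0)) (fun h0 => hik (σ.injective (hi.trans h0.symm)))
    (fun h0 => hjk (σ.injective (hj.trans h0.symm))) (fun h0 => hil (σ.injective (hi.trans h0.symm)))
    (fun h0 => hjl (σ.injective (hj.trans h0.symm))) h2
  have h4 := o2_NN_conj hσ.inv h3
  rw [e, e] at h4
  have h5 : p⁻¹ * (p * u * p⁻¹) * p⁻¹⁻¹ = u := by group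
  rwa [h5] at h4

/-- CASE A -/
theorem caseA {i j : Fin (2 ^ m + 1)} (hij : i ≠ j) {K : Subgroup G} (hK2 : IsPGroup 2 K)
    (hKn : NN ε i j ≤ normalizer (K : Set G)) (hr : rr ε i j ∈ K)
    (hd : ∀ k, k ≠ i → k ≠ j → ∀ u ∈ K, u ∈ CC W i j k ∨ rr ε i j * u ∈ CC W i j k)
    {k l : Fin (2 ^ m + 1)} (ki : k ≠ i) (kj : k ≠ j) (li : l ≠ i) (lj : l ≠ j) {u : G} (hu : u ∈ K)
    (h1 : u ∈ CC W i j k) (h2 : rr ε i j * u ∈ CC W i j l) : H2 ε := by
  have hE := h.split.even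
  obtain ⟨w, hw, hws⟩ := f.mov i k ki.symm
  obtain ⟨w', hw', hws'⟩ := f.mov i l li.symm
  have hc1 := (mem_CC.mp h1).1 w hw
  have hc2 := (mem_CC.mp h2).1 w' hw'
  by_cases hkl : k = l
  · -- `r` would be fixed
    exfalso
    subst hkl
    have h3 := (mem_CC.mp h2).1 w hw
    have h4 : w * rr ε i j * w⁻¹ = rr ε i j := by
      rw [mul_inv_eq_iff_eq_mul]
      apply mul_right_cancel (b := u)
      rw [mul_assoc, h3, mul_assoc, mul_assoc, hc1]
    rw [rr_conj hws, Equiv.swap_apply_left, Equiv.swap_apply_of_ne_of_ne hij.symm kj.symm] at h4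
    have h5 : rr ε k i = 1 := by
      rw [← rr_add hE k j i, h4, rr_symm hE j i, rr_sq hE]
    exact rr_ne_one hE h.three ki h5
  -- `rr l k ∈ K`
  have e1 : w' * u * w'⁻¹ = rr ε l i * u := by
    have h4 : w' * rr ε i j * w'⁻¹ = rr ε l j := by
      rw [rr_conj hws', Equiv.swap_apply_left, Equiv.swap_apply_of_ne_of_ne hij.symm lj.symm]
    calc w' * u * w'⁻¹ = w' * (rr ε i j * rr ε i j) * u * w'⁻¹ := by rw [rr_sq hE, mul_one]
      _ = (w' * rr ε i j * w'⁻¹) * (w' * (rr ε i j * u)) * w'⁻¹ := by group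
      _ = rr ε l j * (rr ε i j * u) := by rw [hc2, h4]; group
      _ = rr ε l i * u := by rw [rr_symm hE i j, ← mul_assoc, rr_add hE]
  have e2 : w * (rr ε l i * u) * w⁻¹ = rr ε l k * u := by
    have h4 : w * rr ε l i * w⁻¹ = rr ε l k := by
      rw [rr_conj hws, Equiv.swap_apply_left, Equiv.swap_apply_of_ne_of_ne li (Ne.symm hkl)]
    calc w * (rr ε l i * u) * w⁻¹ = (w * rr ε l i * w⁻¹) * (w * u) * w⁻¹ := by group
      _ = rr ε l k * u := by rw [hc1, h4]; group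
  have e3 : w * w' * w⁻¹ * u * (w * w' * w⁻¹)⁻¹ = rr ε l k * u := by
    have h5 : w⁻¹ * u * w = u := by
      rw [mul_assoc, ← hc1]
      group
    calc w * w' * w⁻¹ * u * (w * w' * w⁻¹)⁻¹ = w * (w' * (w⁻¹ * u * w) * w'⁻¹) * w⁻¹ := by group
      _ = rr ε l k * u := by rw [h5, e1, e2]
  have hcs : Acts ε (w * w' * w⁻¹) (Equiv.swap i k * Equiv.swap i l * (Equiv.swap i k)⁻¹) :=
    (hws.mul hws').mul hws.inv
  have hcN : w * w' * w⁻¹ ∈ NN ε i j := by
    have h6 : Equiv.swap i k * Equiv.swap i l * (Equiv.swap i k)⁻¹ = Equiv.swap k l := by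
      rw [← Equiv.swap_apply_apply, Equiv.swap_apply_left, Equiv.swap_apply_of_ne_of_ne li (Ne.symm hkl)]
    rw [h6] at hcs
    exact NN_of_acts hcs (swap_fix ki li) (swap_fix kj lj)
  have hlk : rr ε l k ∈ K := by
    have h6 := conj_of (hKn hcN) hu
    rw [e3] at h6
    have h7 := mul_mem h6 (inv_mem hu)
    rwa [mul_inv_cancel_right] at h7
  -- all pairs off `i`, `j`
  have hall : ∀ a c, a ≠ c → a ≠ i → a ≠ j → c ≠ i → c ≠ j → rr ε a c ∈ K := by
    intro a c hac ai aj ci cj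
    obtain ⟨σ, s1, s2, s3⟩ := exists_perm (Ne.symm hkl) hac
    obtain ⟨p, -, hσ⟩ := hE.full σ
    have s4 : σ i = i := s3 i li.symm ki.symm ai.symm ci.symm
    have s5 : σ j = j := s3 j lj.symm kj.symm aj.symm cj.symm
    have h6 := conj_of (hKn (NN_of_acts hσ s4 s5)) hlk
    rwa [rr_conj hσ, s1, s2] at h6
  have hodd : Odd (2 ^ m + 1) := NSix.CosetAct.odd_n (by have := h.m2; omega)
  have hUK : UU ε i j ≤ K := by
    unfold UU
    rw [closure_le]
    rintro x ⟨g, hg, a, a1, a2, rfl⟩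
    exact conj_of (hKn hg) (NSix.Free.zz_mem_of_rr hE hodd h.three hij hr hall a1 a2)
  have hKQ : ∀ a, a ≠ i → a ≠ j → K ≤ o2 (NN ε i a) := fun a ai aj =>
    le_Q h f ai.symm hK2 hKn (fun v hv => (hd a ai aj v hv).imp (fun h0 => h0.1) fun h0 => h0.1) hr
  refine h2_of h hij fun a c hac ai aj ci cj x hx => ?_
  obtain ⟨v, hv, hvs⟩ := f.mov i a ai.symm
  have h6 := hKQ a ai aj (hUK hx)
  have h7 := o2_NN_conj hvs (hKQ c ci cj (hUK hx))
  rw [Equiv.swap_apply_left, Equiv.swap_apply_of_ne_of_ne ci hac.symm] at h7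
  have hra : rr ε i a ∈ o2 (NN ε a c) := A_le_Q h hac (rr_mem hE i a)
  rcases h.fac.wp_conj h6 (f.le i a ai.symm hv) with h8 | h8
  · rwa [h8] at h7
  · rw [h8] at h7
    have h9 := mul_mem h7 hra
    rwa [mul_assoc, rr_sq hE, mul_one] at h9

omit f in
/-- elements of `P` inducing every permutation, in a subgroup containing elements inducing `(i k)`, `(j k)` -/
theorem full_of {i j : Fin (2 ^ m + 1)} (hij : i ≠ j) {D : Subgroup G}
    (hD : ∀ k, k ≠ i → k ≠ j → (∃ w ∈ D, Acts ε w (Equiv.swap i k)) ∧ ∃ w ∈ D, Acts ε w (Equiv.swap j k))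
    (σ : Equiv.Perm (Fin (2 ^ m + 1))) : ∃ w ∈ D, Acts ε w σ := by
  let H : Subgroup (Equiv.Perm (Fin (2 ^ m + 1))) :=
    { carrier := {σ | ∃ w ∈ D, Acts ε w σ}
      one_mem' := ⟨1, one_mem _, Acts.one⟩
      mul_mem' := by
        rintro a b ⟨w, hw, hw1⟩ ⟨v, hv, hv1⟩
        exact ⟨w * v, mul_mem hw hv, hw1.mul hv1⟩
      inv_mem' := by
        rintro a ⟨w, hw, hw1⟩
        exact ⟨w⁻¹, inv_mem hw, hw1.inv⟩ }
  have h1 : ∀ k, k ≠ i → k ≠ j → Equiv.swap i k ∈ H := fun k ki kj => (hD k ki kj).1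
  have h2 : ∀ k, k ≠ i → k ≠ j → Equiv.swap j k ∈ H := fun k ki kj => (hD k ki kj).2
  obtain ⟨o, oi, oj⟩ : ∃ o : Fin (2 ^ m + 1), o ≠ i ∧ o ≠ j := by
    have h3 := h.three
    by_contra hno
    push Not at hno
    have h4 : (Finset.univ : Finset (Fin (2 ^ m + 1))) ⊆ {i, j} := by
      intro a _
      rw [Finset.mem_insert, Finset.mem_singleton]
      by_cases ha : a = i
      · exact Or.inl ha
      · exact Or.inr (hno a ha)
    have h5 := Finset.card_le_card h4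
    rw [Finset.card_univ, Fintype.card_fin] at h5
    have h6 : ({i, j} : Finset (Fin (2 ^ m + 1))).card ≤ 2 := Finset.card_le_two
    omega
  have h3 : Equiv.swap i j ∈ H := by
    have h4 : Equiv.swap i o * Equiv.swap j o * (Equiv.swap i o)⁻¹ = Equiv.swap i j := by
      rw [← Equiv.swap_apply_apply, Equiv.swap_apply_right, Equiv.swap_apply_of_ne_of_ne hij.symm oj.symm,
        Equiv.swap_comm]
    rw [← h4]
    exact mul_mem (mul_mem (h1 o oi oj) (h2 o oi oj)) (inv_mem (h1 o oi oj))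
  have h4 : ∀ k, k ≠ i → Equiv.swap i k ∈ H := by
    intro k ki
    by_cases kj : k = j
    · rw [kj]
      exact h3
    · exact h1 k ki kj
  have h5 : ∀ a b, a ≠ b → Equiv.swap a b ∈ H := by
    intro a b hab
    by_cases ha : a = i
    · rw [ha]
      exact h4 b fun hb => hab (ha.trans hb.symm)
    by_cases hb : b = i
    · rw [hb, Equiv.swap_comm]
      exact h4 a ha
    have h6 : Equiv.swap i a * Equiv.swap i b * (Equiv.swap i a)⁻¹ = Equiv.swap a b := by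
      rw [← Equiv.swap_apply_apply, Equiv.swap_apply_left, Equiv.swap_apply_of_ne_of_ne hb hab.symm]
    rw [← h6]
    exact mul_mem (mul_mem (h4 a ha) (h4 b hb)) (inv_mem (h4 a ha))
  have hH : H = ⊤ := by
    rw [eq_top_iff, ← Equiv.Perm.closure_isSwap, closure_le]
    rintro _ ⟨a, b, hab, rfl⟩
    exact h5 a b hab
  exact (hH ▸ mem_top σ : σ ∈ H)

omit f in
/-- **CASE B**: `K' ≠ 1` normalised by `P`, `K = ⟨r⟩ K'`, `K ≤ Q_ij` -/
theorem caseB {i j : Fin (2 ^ m + 1)} (hij : i ≠ j) {K K' : Subgroup G} (hK' : K' ≤ K)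
    (hK2 : IsPGroup 2 K) (hKn : NN ε i j ≤ normalizer (K : Set G)) (hKN : K ≤ NN ε i j)
    (hd : ∀ u ∈ K, u ∈ K' ∨ rr ε i j * u ∈ K') (h1 : K' ≠ ⊥) (hP : P ≤ normalizer (K' : Set G)) : H2 ε := by
  have hE := h.split.even
  have hK'2 : IsPGroup 2 K' := hK2.to_le hK'
  have hKQ : K ≤ o2 (NN ε i j) := le_o2 hKN hK2 hKn
  set C := centralizer (K' : Set G) with hC
  have hN : normalizer (K' : Set G) ≤ normalizer (C : Set G) := fun g hg => NSix.End.Six.norm_cen _ hg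
  -- (a)
  have a1 : o2 C ≤ o2 P :=
    (NO3b.UMethod.o2_le_o2_of_normal (centralizer_le_normalizer _) hN).trans (o2_le_o2 S h.par.le hP)
  have a2 : ∀ x ∈ o2 C, ∀ v ∈ zl (S : Subgroup G) P, v * x = x * v := by
    intro x hx v hv
    have h2 := a1 hx
    rw [← h.par.inf_centralizer S h.c2] at h2
    exact mem_centralizer_iff.mp h2.2 v hv
  have hrV : rr ε i j ∈ zl (S : Subgroup G) P := h.split.A_le (rr_mem hE i j)
  have a3 : o2 C ≤ NN ε i j := fun x hx => mem_NN.mpr (a2 x hx _ hrV).symm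
  -- (b)
  have b0 : C ⊓ NN ε i j ≤ NN ε i j ⊓ centralizer (K : Set G) := by
    rintro x ⟨hx, hxN⟩
    refine ⟨hxN, mem_centralizer_iff.mpr fun u hu => ?_⟩
    rcases hd u hu with h2 | h2
    · exact mem_centralizer_iff.mp hx u h2
    · have h3 := mem_centralizer_iff.mp hx _ h2
      have h4 := mem_NN.mp hxN
      apply mul_left_cancel (a := rr ε i j)
      calc rr ε i j * (u * x) = rr ε i j * u * x := by group
        _ = x * rr ε i j * u := by rw [h3]; group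
        _ = rr ε i j * (x * u) := by rw [h4]; group
  have b1 : NN ε i j ⊓ centralizer (K : Set G) ≤ C := inf_le_right.trans (centralizer_le hK')
  have b2 : o2 C ≤ o2 (NN ε i j ⊓ centralizer (K : Set G)) :=
    le_o2 ((le_inf (o2_le C) a3).trans b0) (o2_isPGroup C) (b1.trans (le_normalizer_o2 C))
  have b3 : o2 C ≤ o2 (NN ε i j) := by
    refine b2.trans (NO3b.UMethod.o2_le_o2_of_normal inf_le_left (norm_of fun g hg x hx => ?_))
    exact ⟨(NN ε i j).mul_mem ((NN ε i j).mul_mem hg hx.1) ((NN ε i j).inv_mem hg),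
      conj_of (NSix.End.Six.norm_cen _ (hKn hg)) hx.2⟩
  -- (c)
  have c1 : ∀ x ∈ o2 (NN ε i j), (∀ q ∈ o2 (NN ε i j), q * x = x * q) → x ∈ o2 C := by
    intro x _ hx
    refine NOne.LemmaT.char2_centralizer h.c2 hK'2 h1 ⟨mem_centralizer_iff.mpr fun u hu => hx u (hKQ (hK' hu)),
      mem_centralizer_iff.mpr fun y hy => hx y (b3 hy)⟩
  -- (d)
  have d1 : P ≤ normalizer (o2 C : Set G) := fun g hg => normalizer_le_normalizer_o2' C (hN (hP hg))
  have hodd : Odd (2 ^ m + 1) := NSix.CosetAct.odd_n (by have := h.m2; omega)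
  refine h2_of h hij fun k l hkl ki kj li lj x hx => ?_
  have hxQ : x ∈ o2 (NN ε i j) := by
    have h2 : UU ε i j ≤ o2 (NN ε i j) := by
      unfold UU
      rw [closure_le]
      rintro y ⟨g, hg, a, a1, a2, rfl⟩
      refine conj_of (le_normalizer_o2 _ hg) ?_
      exact A_le_Q h hij (zz_mem hE a)
    exact h2 hx
  have hxC : x ∈ o2 C :=
    c1 x hxQ fun q hq => mem_centralizer_iff.mp (h.fac.uu_cen hodd h.three hij hx) q hq
  obtain ⟨σ, s1, s2, -⟩ := exists_perm hij hkl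
  obtain ⟨p, hp, hσ⟩ := hE.full σ
  have h3 := conj_of' (d1 hp) hxC
  have h4 := o2_NN_conj hσ (b3 h3)
  rw [s1, s2] at h4
  have e : p * (p⁻¹ * x * p) * p⁻¹ = x := by group
  rwa [e] at h4

/-- the theorem for `r ∈ K` -/
theorem le_one_aux {i j o : Fin (2 ^ m + 1)} (hij : i ≠ j) (oi : o ≠ i) (oj : o ≠ j) {K : Subgroup G}
    (hK2 : IsPGroup 2 K) (hKn : NN ε i j ≤ normalizer (K : Set G)) (hr : rr ε i j ∈ K)
    (hdo : ∀ u ∈ K, u ∈ CC W i j o ∨ rr ε i j * u ∈ CC W i j o) :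
    H2 ε ∨ ∀ u ∈ K, u = 1 ∨ u = rr ε i j := by
  have hE := h.split.even
  -- all `k`
  have hd : ∀ k, k ≠ i → k ≠ j → ∀ u ∈ K, u ∈ CC W i j k ∨ rr ε i j * u ∈ CC W i j k := by
    intro k ki kj u hu
    obtain ⟨p, -, hσ⟩ := hE.full (Equiv.swap k o)
    have s1 : Equiv.swap k o i = i := swap_fix ki oi
    have s2 : Equiv.swap k o j = j := swap_fix kj oj
    have hpN : p ∈ NN ε i j := NN_of_acts hσ s1 s2
    rcases hdo _ (conj_of (hKn hpN) hu) with h1 | h1
    · exact Or.inl (conj_CC f hσ s1 s2 (Equiv.swap_apply_left k o) ki kj h1)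
    · refine Or.inr (conj_CC f hσ s1 s2 (Equiv.swap_apply_left k o) ki kj ?_)
      have e : p * (rr ε i j * u) * p⁻¹ = rr ε i j * (p * u * p⁻¹) := by
        have h2 := mem_NN.mp hpN
        calc p * (rr ε i j * u) * p⁻¹ = p * rr ε i j * u * p⁻¹ := by group
          _ = rr ε i j * (p * u * p⁻¹) := by rw [h2]; group
      rwa [e]
  by_cases hA : ∃ k, (k ≠ i ∧ k ≠ j) ∧ ∃ l, (l ≠ i ∧ l ≠ j) ∧ ∃ u ∈ K, u ∈ CC W i j k ∧ rr ε i j * u ∈ CC W i j l
  · obtain ⟨k, ⟨ki, kj⟩, l, ⟨li, lj⟩, u, hu, h1, h2⟩ := hA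
    exact Or.inl (caseA h f hij hK2 hKn hr hd ki kj li lj hu h1 h2)
  push Not at hA
  -- `K'`
  let K' : Subgroup G := K ⊓ ⨅ k : {k : Fin (2 ^ m + 1) // k ≠ i ∧ k ≠ j}, CC W i j k
  have hmem : ∀ {u : G}, u ∈ K' ↔ u ∈ K ∧ ∀ k, k ≠ i → k ≠ j → u ∈ CC W i j k := by
    intro u
    change u ∈ K ⊓ ⨅ k : {k : Fin (2 ^ m + 1) // k ≠ i ∧ k ≠ j}, CC W i j k ↔ _
    rw [mem_inf, mem_iInf]
    refine and_congr_right fun _ => ⟨fun h1 k ki kj => h1 ⟨k, ki, kj⟩, fun h1 k => h1 k k.2.1 k.2.2⟩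
  have hdK : ∀ u ∈ K, u ∈ K' ∨ rr ε i j * u ∈ K' := by
    intro u hu
    rcases hdo u hu with h1 | h1
    · left
      rw [hmem]
      exact ⟨hu, fun k ki kj => (hd k ki kj u hu).resolve_right (hA o ⟨oi, oj⟩ k ⟨ki, kj⟩ u hu h1)⟩
    · right
      rw [hmem]
      refine ⟨mul_mem hr hu, fun k ki kj => ?_⟩
      have e : rr ε i j * (rr ε i j * u) = u := by rw [← mul_assoc, rr_sq hE, one_mul]
      refine (hd k ki kj (rr ε i j * u) (mul_mem hr hu)).resolve_right ?_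
      exact hA o ⟨oi, oj⟩ k ⟨ki, kj⟩ _ (mul_mem hr hu) h1
  by_cases hK'1 : K' = ⊥
  · right
    intro u hu
    rcases hdK u hu with h1 | h1
    · rw [hK'1, mem_bot] at h1
      exact Or.inl h1
    · rw [hK'1, mem_bot, mul_eq_one_iff_eq_inv] at h1
      right
      rw [← inv_inj, ← h1, rr_inv hE]
  left
  -- `P` normalises `K'`
  have hDK : ∀ σ : Equiv.Perm (Fin (2 ^ m + 1)), ∃ w ∈ centralizer (K' : Set G), Acts ε w σ := by
    refine full_of h hij fun k ki kj => ⟨?_, ?_⟩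
    · obtain ⟨w, hw, hws⟩ := f.mov i k ki.symm
      exact ⟨w, mem_centralizer_iff.mpr fun u hu => ((mem_CC.mp ((hmem.mp hu).2 k ki kj)).1 w hw).symm, hws⟩
    · obtain ⟨w, hw, hws⟩ := f.mov j k kj.symm
      exact ⟨w, mem_centralizer_iff.mpr fun u hu => ((mem_CC.mp ((hmem.mp hu).2 k ki kj)).2 w hw).symm, hws⟩
  have hPK : P ≤ normalizer (K' : Set G) := by
    refine norm_of fun p hp u hu => ?_
    obtain ⟨σ, hσ⟩ := hE.perm p hp
    obtain ⟨w, hw, hws⟩ := hDK σ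
    have hc : Acts ε (w⁻¹ * p) 1 := by
      have := hws.inv.mul hσ
      rwa [inv_mul_cancel] at this
    have hcN : w⁻¹ * p ∈ NN ε i j := NN_of_acts hc rfl rfl
    have h1 : (w⁻¹ * p) * u * (w⁻¹ * p)⁻¹ ∈ K' := by
      rw [hmem] at hu ⊢
      refine ⟨conj_of (hKn hcN) hu.1, fun k ki kj => ?_⟩
      have hc' : Acts ε (w⁻¹ * p)⁻¹ 1 := by
        have := hc.inv
        rwa [inv_one] at this
      refine conj_CC f hc' rfl rfl rfl ki kj ?_
      have e : (w⁻¹ * p)⁻¹ * (w⁻¹ * p * u * (w⁻¹ * p)⁻¹) * (w⁻¹ * p)⁻¹⁻¹ = u := by group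
      rw [e]
      exact hu.2 k ki kj
    have h2 := mem_centralizer_iff.mp hw _ h1
    have e : p * u * p⁻¹ = w * (w⁻¹ * p * u * (w⁻¹ * p)⁻¹) * w⁻¹ := by group
    rw [e, ← h2, mul_inv_cancel_right]
    exact h1
  have hKN : K ≤ NN ε i j := by
    intro u hu
    have hk : ∀ v ∈ CC W i j o, v ∈ NN ε i j := by
      intro v hv
      exact mem_NN.mpr ((mem_CC.mp hv).1 _ (f.Ale i o oi.symm (rr_mem hE i j))).symm
    rcases hdo u hu with h1 | h1
    · exact hk u h1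
    · have h2 := mul_mem (mem_NN.mpr rfl : rr ε i j ∈ NN ε i j) (hk _ h1)
      rwa [← mul_assoc, rr_sq hE, one_mul] at h2
  exact caseB h hij inf_le_left hK2 hKn hKN hdK hK'1 hPK

/-- **LE or (H2)** -/
theorem le_one {i j o : Fin (2 ^ m + 1)} (hij : i ≠ j) (oi : o ≠ i) (oj : o ≠ j) {K : Subgroup G}
    (hK2 : IsPGroup 2 K) (hKn : NN ε i j ≤ normalizer (K : Set G))
    (hdo : ∀ u ∈ K, u ∈ CC W i j o ∨ rr ε i j * u ∈ CC W i j o) :
    H2 ε ∨ ∀ u ∈ K, u = 1 ∨ u = rr ε i j := by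
  have hE := h.split.even
  have hCC : ∀ v ∈ CC W i j o, v * rr ε i j = rr ε i j * v := fun v hv =>
    ((mem_CC.mp hv).1 _ (f.Ale i o oi.symm (rr_mem hE i j))).symm
  have hcom : ∀ u ∈ K, u * rr ε i j = rr ε i j * u := by
    intro u hu
    rcases hdo u hu with h1 | h1
    · exact hCC u h1
    · have h2 := hCC _ h1
      apply mul_left_cancel (a := rr ε i j)
      rw [← mul_assoc, h2]
  -- `K₁ = K ∪ r K`
  let K₁ : Subgroup G :=
    { carrier := {x | x ∈ K ∨ rr ε i j * x ∈ K}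
      one_mem' := Or.inl (one_mem _)
      mul_mem' := by
        rintro a b (ha | ha) (hb | hb)
        · exact Or.inl (mul_mem ha hb)
        · right
          have e : rr ε i j * (a * b) = a * (rr ε i j * b) := by rw [← mul_assoc, ← hcom a ha, mul_assoc]
          rw [e]
          exact mul_mem ha hb
        · right
          rw [← mul_assoc]
          exact mul_mem ha hb
        · left
          have h1 : a * rr ε i j = rr ε i j * a := by
            have h2 := hcom _ ha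
            apply mul_left_cancel (a := rr ε i j)
            rw [← mul_assoc, h2]
          have e : a * b = (rr ε i j * a) * (rr ε i j * b) := by
            calc a * b = a * (rr ε i j * rr ε i j) * b := by rw [rr_sq hE, mul_one]
              _ = (a * rr ε i j) * (rr ε i j * b) := by group
              _ = _ := by rw [h1]
          rw [e]
          exact mul_mem ha hb
      inv_mem' := by
        rintro a (ha | ha)
        · exact Or.inl (inv_mem ha)
        · right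
          have e : rr ε i j * a⁻¹ = (rr ε i j * a)⁻¹ := by
            rw [mul_inv_rev, rr_inv hE]
            have h3 : a * rr ε i j = rr ε i j * a := by
              have h4 := hcom _ ha
              apply mul_left_cancel (a := rr ε i j)
              rw [← mul_assoc, h4]
            exact ((show Commute a (rr ε i j) from h3).inv_left.eq).symm
          rw [e]
          exact inv_mem ha }
  have hle : K ≤ K₁ := fun x hx => Or.inl hx
  have hr : rr ε i j ∈ K₁ := Or.inr (by rw [rr_sq hE]; exact one_mem _)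
  have h2 : IsPGroup 2 K₁ := by
    rintro ⟨x, hx⟩
    have h3 : x * x ∈ K := by
      rcases hx with hx | hx
      · exact mul_mem hx hx
      · have h4 : x * rr ε i j = rr ε i j * x := by
          have h4 := hcom _ hx
          apply mul_left_cancel (a := rr ε i j)
          rw [← mul_assoc, h4]
        have e : x * x = (rr ε i j * x) * (rr ε i j * x) := by
          calc x * x = x * (rr ε i j * rr ε i j) * x := by rw [rr_sq hE, mul_one]
            _ = (x * rr ε i j) * (rr ε i j * x) := by group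
            _ = _ := by rw [h4]
        rw [e]
        exact mul_mem hx hx
    obtain ⟨k, hk⟩ := hK2 ⟨x * x, h3⟩
    refine ⟨k + 1, Subtype.ext ?_⟩
    have h4 : (x * x) ^ 2 ^ k = 1 := congrArg Subtype.val hk
    change x ^ 2 ^ (k + 1) = 1
    rw [pow_succ', pow_mul, pow_two, h4]
  have hn : NN ε i j ≤ normalizer (K₁ : Set G) := by
    refine norm_of fun g hg x hx => ?_
    rcases hx with hx | hx
    · exact Or.inl (conj_of (hKn hg) hx)
    · right
      have h3 := conj_of (hKn hg) hx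
      have e : g * (rr ε i j * x) * g⁻¹ = rr ε i j * (g * x * g⁻¹) := by
        have h4 := mem_NN.mp hg
        calc g * (rr ε i j * x) * g⁻¹ = g * rr ε i j * x * g⁻¹ := by group
          _ = rr ε i j * (g * x * g⁻¹) := by rw [h4]; group
      rwa [e] at h3
  have hd1 : ∀ u ∈ K₁, u ∈ CC W i j o ∨ rr ε i j * u ∈ CC W i j o := by
    rintro u (hu | hu)
    · exact hdo u hu
    · rcases hdo _ hu with h3 | h3
      · exact Or.inr h3
      · left
        rwa [← mul_assoc, rr_sq hE, one_mul] at h3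
  exact (le_one_aux h f hij oi oj h2 hn hr hd1).imp id fun h3 u hu => h3 u (hle hu)

end

/-! ### the two families -/

/-- `WP` -/
theorem fam_WP (h : Sit S P m A ε)
    (hN : ∃ i j, i ≠ j ∧ ∃ g ∈ WP ε i j, ¬ g ∈ centralizer (A : Set G)) : Fam A ε (WP ε) where
  Ale _ _ hij _ ha := h.fac.mem_wp hij ha
  wn _ _ _ _ hg _ hx := WP_norm hg hx
  wc _ _ hg _ _ _ _ hx := WP_conj hg hx
  le _ _ _ := le_rfl
  mov _ _ hij := h.mov hN hij

/-- `⟨A ^ N_ij⟩` -/
theorem fam_WW (h : Sit S P m A ε)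
    (hN : ∃ i j, i ≠ j ∧ ∃ g ∈ WW A ε i j, ¬ g ∈ centralizer (A : Set G)) : Fam A ε (WW A ε) := by
  have hE := h.split.even
  have hle : ∀ i j : Fin (2 ^ m + 1), i ≠ j → WW A ε i j ≤ WP ε i j := by
    intro i j hij
    unfold WW
    rw [closure_le]
    rintro x ⟨g, hg, v, hv, rfl⟩
    exact WP_norm hg (h.fac.mem_wp hij hv)
  refine
    { Ale := fun i j _ => V_le_WW i j
      wn := fun _ _ _ _ hg _ hx => WW_normal hg hx
      wc := fun _ _ hg _ _ _ _ hx => WW_conj (acts_norm hE hg) hg hx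
      le := hle
      mov := ?_ }
  obtain ⟨i0, j0, hij0, g, hg, hgV⟩ := hN
  have hgs : Acts ε g (Equiv.swap i0 j0) :=
    (h.acts hij0 (h.fac.ww h.c2 h.three hij0 (hle i0 j0 hij0 hg))).resolve_left fun h1 =>
      hgV (hE.acts_one_iff.mp h1)
  intro i j hij
  obtain ⟨σ, h1, h2, -⟩ := exists_perm hij0 hij
  obtain ⟨p, -, hp⟩ := hE.full σ
  refine ⟨p * g * p⁻¹, ?_, ?_⟩
  · have := WW_conj (acts_norm hE hp) hp hg
    rwa [h1, h2] at this
  · have h3 := hp.conj hgs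
    have h4 : σ * Equiv.swap i0 j0 * σ⁻¹ = Equiv.swap i j := by
      rw [← Equiv.swap_apply_apply, h1, h2]
    rwa [h4] at h3

end Cfsg.Agent.Omega.F4Leaf.Syl.LEone

end

section


/-!
# LeafF4: LE of `HTwo.ThmA` over any frame `L`, `R` with `L ∋ r_ij, r_io, r_jo` (plug of `LEone.le_one`)

* `A_le_WW`, `WW_le_WW` : `⟨A ^ N_io⟩ ≤ ⟨L ^ N(R)⟩`;
* `le_frame` : `(H2)` or `LE L R j` for all `j`.
-/

set_option autoImplicit false
set_option linter.dupNamespace false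

namespace Cfsg.Agent.Omega.F4Leaf.Syl.LEone

open Subgroup Pointwise Cfsg Cfsg.Agent Cfsg.Agent.Omega.MinPar
open Cfsg.Agent.ZN (o2 zc zl)
open Cfsg.Agent.Omega.FrameFF (cv)
open Cfsg.Agent.Omega.S5.Def Cfsg.Agent.Omega.S5.Syl Cfsg.Agent.Omega.F4Leaf.Def
open Cfsg.Agent.Omega.S5.SymBig (H2)
open Cfsg.Agent.Omega.F4Leaf.Pos Cfsg.Agent.Omega.F4Leaf.Facts
open Cfsg.Agent.Omega.NSix.Base Cfsg.Agent.Omega.NSix.Basic Cfsg.Agent.Omega.NSix.FixApp
open Cfsg.Agent.Omega.NSix.Zero (WP)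
open Cfsg.Agent.MinSimple.VModule (o2_isPGroup o2_le le_o2 le_normalizer_o2)

universe u

variable {G : Type u} [Group G] [Finite G] {S : Sylow 2 G} {P : Subgroup G} {m : ℕ} {A : Subgroup G}
  {ε : (Fin (2 ^ m + 1) → ZMod 2) → G} {L : Subgroup G}

/-- `A ≤ ⟨L ^ N(R)⟩` for `r_ao, r_bo ∈ L`, `N_ao ≤ N(R)` -/
theorem A_le_WW (h : Sit S P m A ε) {R : Subgroup G} {a b o : Fin (2 ^ m + 1)} (hab : a ≠ b)
    (hao : a ≠ o) (hbo : b ≠ o) (hR : NN ε a o ≤ normalizer (R : Set G)) (h1 : rr ε a o ∈ L) (h2 : rr ε b o ∈ L) :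
    A ≤ BTwo.WW L R := by
  have hE := h.split.even
  have hodd : Odd (2 ^ m + 1) := NSix.CosetAct.odd_n (by have := h.m2; omega)
  have hL := BTwo.V_le_WW L R
  have hn : NN ε a o ≤ normalizer (BTwo.WW L R : Set G) := hR.trans (BTwo.normalizer_le_WW L R)
  have hko : ∀ k, k ≠ o → rr ε k o ∈ BTwo.WW L R := by
    intro k hko
    by_cases ka : k = a
    · rw [ka]
      exact hL h1
    obtain ⟨p, -, hp⟩ := hE.full (Equiv.swap b k)
    have s1 : Equiv.swap b k a = a := swap_fix hab.symm ka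
    have s2 : Equiv.swap b k o = o := swap_fix hbo hko
    have h3 := conj_of (hn (NN_of_acts hp s1 s2)) (hL h2)
    rwa [rr_conj hp, Equiv.swap_apply_left, s2] at h3
  have hall : ∀ k l, rr ε k l ∈ BTwo.WW L R := by
    intro k l
    rw [← rr_add hE k o l]
    have h0 : ∀ k, rr ε k o ∈ BTwo.WW L R := by
      intro k
      by_cases hk : k = o
      · rw [hk]
        have h4 : rr ε o o = 1 := by
          unfold rr
          rw [zz_sq hE]
        rw [h4]
        exact one_mem _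
      · exact hko k hk
    refine mul_mem (h0 k) ?_
    rw [rr_symm hE]
    exact h0 l
  have hz : ∀ k, k ≠ a → k ≠ o → zz ε k ∈ BTwo.WW L R := fun k ka ko =>
    NSix.Free.zz_mem_of_rr hE hodd h.three hao (hall a o) (fun c d _ _ _ _ _ => hall c d) ka ko
  refine NSix.Free.v_le_of_zz hE fun k => ?_
  have h3 := hz b hab.symm hbo
  have h4 : zz ε k = rr ε k b * zz ε b := by
    unfold rr
    rw [mul_assoc, zz_sq hE, mul_one]
  rw [h4]
  exact mul_mem (hall k b) h3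

theorem WW_le_WW (h : Sit S P m A ε) {R : Subgroup G} {a b o : Fin (2 ^ m + 1)} (hab : a ≠ b)
    (hao : a ≠ o) (hbo : b ≠ o) (hR : NN ε a o ≤ normalizer (R : Set G)) (h1 : rr ε a o ∈ L) (h2 : rr ε b o ∈ L) :
    WW A ε a o ≤ BTwo.WW L R := by
  unfold WW
  rw [closure_le]
  rintro x ⟨g, hg, v, hv, rfl⟩
  exact conj_of (hR.trans (BTwo.normalizer_le_WW L R) hg) (A_le_WW h hab hao hbo hR h1 h2 hv)

/-- **LE or (H2)**, for a frame -/
theorem le_frame {ι : Type*} {R : ι → Subgroup G} (h : Sit S P m A ε) (b : BTwo.BTS L R)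
    (hN : ∃ i j, i ≠ j ∧ ∃ g ∈ WW A ε i j, ¬ g ∈ centralizer (A : Set G))
    {i j o : Fin (2 ^ m + 1)} (hij : i ≠ j) (oi : o ≠ i) (oj : o ≠ j)
    (h1 : rr ε i j ∈ L) (h2 : rr ε i o ∈ L) (h3 : rr ε j o ∈ L) {a1 a2 a3 : ι}
    (hr : ∀ x ∈ R a1, x = 1 ∨ x = rr ε i j) (hri : rr ε i j ∈ R a1) (hn1 : NN ε i j ≤ normalizer (R a1 : Set G))
    (hn2 : NN ε i o ≤ normalizer (R a2 : Set G)) (hn3 : NN ε j o ≤ normalizer (R a3 : Set G)) :
    H2 ε ∨ ∀ l, HTwo.ThmA.LE L R l := by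
  by_cases hH : H2 ε
  · exact Or.inl hH
  right
  have hE := h.split.even
  have f := fam_WW h hN
  have hX : ∀ x ∈ BTwo.CenX L R, x ∈ CC (WW A ε) i j o := by
    intro x hx
    have k2 : WW A ε i o ≤ BTwo.XX L R :=
      (WW_le_WW h hij oi.symm oj.symm hn2 h2 h3).trans (le_iSup (fun l => BTwo.WW L (R l)) a2)
    have k3 : WW A ε j o ≤ BTwo.XX L R :=
      (WW_le_WW h hij.symm oj.symm oi.symm hn3 h3 h2).trans (le_iSup (fun l => BTwo.WW L (R l)) a3)
    exact ⟨centralizer_le k2 hx, centralizer_le k3 hx⟩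
  have hXr : ∀ x ∈ BTwo.CenX L R, x * rr ε i j = rr ε i j * x := fun x hx =>
    (mem_centralizer_iff.mp (b.CenX_le_cen hx) _ h1).symm
  refine HTwo.ThmA.le_all b.toBT (i := a1) fun Λ hΛ hΛn => ?_
  have hd : ∀ u ∈ Λ, u ∈ BTwo.CenX L R ∨ rr ε i j * u ∈ BTwo.CenX L R := by
    intro u hu
    obtain ⟨a, ha, hau⟩ := hΛ u hu
    rcases hr a ha with rfl | rfl
    · left
      rwa [one_mul] at hau
    · exact Or.inr hau
  have hΛ2 : IsPGroup 2 Λ := by
    rintro ⟨x, hx⟩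
    have h5 : x * x ∈ BTwo.CenX L R := by
      rcases hd x hx with h6 | h6
      · exact mul_mem h6 h6
      · have h7 := hXr _ h6
        have h8 : x * rr ε i j = rr ε i j * x := by
          apply mul_left_cancel (a := rr ε i j)
          rw [← mul_assoc, h7]
        have e : x * x = (rr ε i j * x) * (rr ε i j * x) := by
          calc x * x = x * (rr ε i j * rr ε i j) * x := by rw [rr_sq hE, mul_one]
            _ = (x * rr ε i j) * (rr ε i j * x) := by group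
            _ = _ := by rw [h8]
        rw [e]
        exact mul_mem h6 h6
    obtain ⟨k, hk⟩ := b.CenX_isPGroup ⟨x * x, h5⟩
    refine ⟨k + 1, Subtype.ext ?_⟩
    have h6 : (x * x) ^ 2 ^ k = 1 := congrArg Subtype.val hk
    change x ^ 2 ^ (k + 1) = 1
    rw [pow_succ', pow_mul, pow_two, h6]
  rcases le_one h f hij oi oj hΛ2 (hn1.trans hΛn) fun u hu => (hd u hu).imp (hX u) (hX _) with h4 | h4
  · exact absurd h4 hH
  · intro u hu
    rcases h4 u hu with rfl | rfl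
    · exact one_mem _
    · exact hri

end Cfsg.Agent.Omega.F4Leaf.Syl.LEone

end
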