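import Cfsg.Agent.Mrg.Omega.IId.Cv.MixS
import Cfsg.Agent.Mrg.Omega.F4Leaf.Fac
import Cfsg.Agent.Mrg.Omega.NSix.CaseJ.Exact
import Cfsg.Agent.Mrg.Omega.F4Leaf.Cen.Base

section


/-!
# LeafF4: mixed pairs (piece F of #21478), from 994's `MixS.mix_sym` (helper300)

* `NonAb ε i j o` : two `C_G(r_ij)`-conjugates of `x₀ = r_io` do not commute; `nonAb_of` : it is enough that two
  `C_G(r_ij)`-conjugates of elements of `A` do not commute;
* `nonab` : for two members of types `S_{2^m+1}`, `S_{2^m'+1}` of a mutual pair, `r_ij = r'_kl` (`V₀ ≠ 1` or `m = 2`), one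
  of `⟨V^{C_G(n)}⟩`, `⟨V'^{C_G(n)}⟩` is nonabelian.
-/

set_option autoImplicit false

namespace Cfsg.Agent.Omega.F4Leaf.Syl.Mix

open Subgroup Pointwise Cfsg Cfsg.Agent Cfsg.Agent.Omega.MinPar
open Cfsg.Agent.ZN (o2 zc zl)
open Cfsg.Agent.ZN.ChoiceBase
open Cfsg.Agent.Omega.FrameFF (cv Single Free)
open Cfsg.Agent.Omega.S5.Def Cfsg.Agent.Omega.S5.Pair
open Cfsg.Agent.Omega.NSix.Base Cfsg.Agent.Omega.NSix.Basic
open Cfsg.Agent.Omega.F4Leaf.Def Cfsg.Agent.Omega.F4Leaf.Main Cfsg.Agent.Omega.F4Leaf.Facts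
open Cfsg.Agent.Omega.IId.Cv (E3 mem_E3 card_E3 norm_E3)
open Cfsg.Agent.MinSimple.VModule (o2_isPGroup o2_le le_normalizer_o2)

universe u

variable {G : Type u} [Group G]

/-- two `C_G(r_ij)`-conjugates of `r_io` do not commute -/
def NonAb {n : ℕ} (ε : (Fin n → ZMod 2) → G) (i j o : Fin n) : Prop :=
  ∃ h ∈ NN ε i j, rr ε i o * (h * rr ε i o * h⁻¹) ≠ h * rr ε i o * h⁻¹ * rr ε i o

/-- the pairs `{i, p}` generate `A` -/
theorem le_of_rr_i {m : ℕ} {A P : Subgroup G} {ε : (Fin (2 ^ m + 1) → ZMod 2) → G}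
    (h : EvenSet (2 ^ m + 1) A P ε) (hm : 1 ≤ m) (i : Fin (2 ^ m + 1)) {W : Subgroup G}
    (hW : ∀ p, p ≠ i → rr ε i p ∈ W) : A ≤ W := by
  have key : ∀ p, rr ε i p ∈ W := by
    intro p
    by_cases hp : p = i
    · subst hp
      have h1 : rr ε p p = 1 := h.sq _
      rw [h1]
      exact one_mem _
    · exact hW p hp
  refine NSix.CaseJ.LemQ.V_le_of_rr h hm fun p => ?_
  rw [← rr_add h p i 0, rr_symm h p i]
  exact mul_mem (key p) (key 0)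

/-- it is enough to look at `A` -/
theorem nonAb_of {m : ℕ} {A P : Subgroup G} {ε : (Fin (2 ^ m + 1) → ZMod 2) → G}
    (h : EvenSet (2 ^ m + 1) A P ε) (hm : 1 ≤ m) {i j o : Fin (2 ^ m + 1)} (hij : i ≠ j) (oi : o ≠ i) (oj : o ≠ j)
    (hx : ∃ g ∈ NN ε i j, ∃ a ∈ A, ∃ b ∈ A, a * (g * b * g⁻¹) ≠ g * b * g⁻¹ * a) : NonAb ε i j o := by
  by_contra hcon
  have hc : ∀ g ∈ NN ε i j, rr ε i o * (g * rr ε i o * g⁻¹) = g * rr ε i o * g⁻¹ * rr ε i o := by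
    intro g hg
    by_contra h1
    exact hcon ⟨g, hg, h1⟩
  -- representatives
  have rep : ∀ p, p ≠ i → p ≠ j → ∃ c ∈ NN ε i j, c * rr ε i o * c⁻¹ = rr ε i p := by
    intro p pi pj
    obtain ⟨c, hcP, hcσ⟩ := h.full (Equiv.swap o p)
    refine ⟨c, ?_, ?_⟩
    · rw [mem_NN']
      rw [rr_conj hcσ, Equiv.swap_apply_of_ne_of_ne oi.symm pi.symm, Equiv.swap_apply_of_ne_of_ne oj.symm pj.symm]
    · rw [rr_conj hcσ, Equiv.swap_apply_of_ne_of_ne oi.symm pi.symm, Equiv.swap_apply_left]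
  have key : ∀ g ∈ NN ε i j, ∀ p, p ≠ i → ∀ q, q ≠ i →
      rr ε i p * (g * rr ε i q * g⁻¹) = g * rr ε i q * g⁻¹ * rr ε i p := by
    intro g hg p pi q qi
    have hgn := mem_NN.mp hg
    by_cases pj : p = j
    · subst pj
      -- `r_ij` is central in `C_G(r_ij)`
      by_cases qj : q = p
      · subst qj
        rw [hgn, mul_inv_cancel_right]
      · obtain ⟨c, hc1, hc2⟩ := rep q qi qj
        have h1 : rr ε i p * rr ε i q = rr ε i q * rr ε i p := h.comm_mem (rr_mem h i p) (rr_mem h i q)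
        calc rr ε i p * (g * rr ε i q * g⁻¹) = (rr ε i p * g) * rr ε i q * g⁻¹ := by group
          _ = (g * rr ε i p) * rr ε i q * g⁻¹ := by rw [hgn]
          _ = g * (rr ε i p * rr ε i q) * g⁻¹ := by group
          _ = g * (rr ε i q * rr ε i p) * g⁻¹ := by rw [h1]
          _ = g * rr ε i q * g⁻¹ * (g * rr ε i p * g⁻¹) := by group
          _ = _ := by rw [hgn, mul_inv_cancel_right]
    · by_cases qj : q = j
      · subst qj
        rw [hgn, mul_inv_cancel_right]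
        exact h.comm_mem (rr_mem h i p) (rr_mem h i q)
      · obtain ⟨c, hc1, hc2⟩ := rep p pi pj
        obtain ⟨d, hd1, hd2⟩ := rep q qi qj
        have h1 := hc (c⁻¹ * g * d) (mul_mem (mul_mem (inv_mem hc1) hg) hd1)
        rw [← hc2, ← hd2]
        calc c * rr ε i o * c⁻¹ * (g * (d * rr ε i o * d⁻¹) * g⁻¹)
            = c * (rr ε i o * (c⁻¹ * g * d * rr ε i o * (c⁻¹ * g * d)⁻¹)) * c⁻¹ := by group
          _ = _ := by rw [h1]; group
  obtain ⟨g, hg, a, ha, b, hb, hne⟩ := hx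
  refine hne ?_
  -- `A ≤ C(g r_iq g⁻¹)`
  have h1 : ∀ q, q ≠ i → ∀ a ∈ A, a * (g * rr ε i q * g⁻¹) = g * rr ε i q * g⁻¹ * a := by
    intro q qi a ha
    have h2 : A ≤ centralizer ({g * rr ε i q * g⁻¹} : Set G) :=
      le_of_rr_i h hm i fun p pi => mem_centralizer_singleton_iff.mpr (key g hg p pi q qi)
    exact mem_centralizer_singleton_iff.mp (h2 ha)
  have h2 : A ≤ centralizer ({g⁻¹ * a * g} : Set G) := by
    refine le_of_rr_i h hm i fun q qi => mem_centralizer_singleton_iff.mpr ?_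
    have h3 := h1 q qi a ha
    calc rr ε i q * (g⁻¹ * a * g) = g⁻¹ * (g * rr ε i q * g⁻¹ * a) * g := by group
      _ = _ := by rw [← h3]; group
  have h3 := mem_centralizer_singleton_iff.mp (h2 hb)
  calc a * (g * b * g⁻¹) = g * (g⁻¹ * a * g * b) * g⁻¹ := by group
    _ = _ := by rw [← h3]; group

section pair

variable [Finite G] {S : Sylow 2 G} {P₁ P₂ : Subgroup G} {y : G} {m m' : ℕ} {A : Subgroup G}
  {ε : (Fin (2 ^ m + 1) → ZMod 2) → G} {A₂ : Subgroup G} {ε₂ : (Fin (2 ^ m' + 1) → ZMod 2) → G}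

/-- **MIXED pairs.** -/
theorem nonab (hG : IsCharacteristicTwoType G) (hl : LabTwoZ S P₁ P₂ y m m' A ε A₂ ε₂) (hm : 2 ≤ m) (hm' : 2 ≤ m')
    (hc : cv (S : Subgroup G) P₁ ≠ ⊥ ∨ m = 2) {i j : Fin (2 ^ m + 1)} {k l : Fin (2 ^ m' + 1)} (hij : i ≠ j)
    (hkl : k ≠ l) (hr : rr ε i j = rr (fun x => y * ε₂ x * y⁻¹) k l)
    (hb : ∃ b ∈ cj y A₂, Acts ε b (Equiv.swap i j)) :
    (∀ o, o ≠ i → o ≠ j → NonAb ε i j o) ∨
      ∀ o, o ≠ k → o ≠ l → NonAb (fun x => y * ε₂ x * y⁻¹) k l o := by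
  by_contra hcon
  push Not at hcon
  obtain ⟨⟨o, oi, oj, hn1⟩, o', ok, ol, hn2⟩ := hcon
  have s₁ : Pos.Sit S P₁ m A ε := ⟨hG, hl.pair.star₁, hm, hl.split⟩
  have s₂ : Pos.Sit S P₂ m' A₂ ε₂ := ⟨hG, hl.pair.star₂, hm', hl.split₂⟩
  have f₂ := s₂.fac.conj y
  set ε' : (Fin (2 ^ m' + 1) → ZMod 2) → G := fun x => y * ε₂ x * y⁻¹ with hε'
  have ev := hl.split.even
  have ev' : EvenSet (2 ^ m' + 1) (cj y A₂) (cj y P₂) ε' := f₂.ev
  have hn5 : 5 ≤ 2 ^ m + 1 := S5.Syl.five_le hm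
  have hn5' : 5 ≤ 2 ^ m' + 1 := S5.Syl.five_le hm'
  have hNN : NN ε i j = NN ε' k l := by
    unfold NN
    rw [hr]
  -- everything commutes
  have c1 : ∀ g ∈ NN ε i j, ∀ a ∈ A, ∀ b ∈ A, a * (g * b * g⁻¹) = g * b * g⁻¹ * a := by
    intro g hg a ha b hb
    by_contra h1
    exact hn1 (nonAb_of ev (by omega) hij oi oj ⟨g, hg, a, ha, b, hb, h1⟩)
  have c2 : ∀ g ∈ NN ε i j, ∀ a ∈ cj y A₂, ∀ b ∈ cj y A₂, a * (g * b * g⁻¹) = g * b * g⁻¹ * a := by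
    intro g hg a ha b hb
    by_contra h1
    exact hn2 (nonAb_of ev' (by omega) hkl ok ol ⟨g, hNN ▸ hg, a, ha, b, hb, h1⟩)
  -- `V' ` acts as `⟨(i j)⟩`
  obtain ⟨b, hb, hbs⟩ := hb
  have hact : ∀ c ∈ cj y A₂, Acts ε c 1 ∨ Acts ε c (Equiv.swap i j) := by
    obtain ⟨i0, j0, -, -, hij0, -, -, -, h2, -⟩ := Two.exists_common hG hl hm hm'
    rcases h2 b hb with h3 | h3
    · exfalso
      exact hij (Equiv.swap_eq_one_iff.mp (ev.acts_unique (by omega) hbs h3))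
    · have h4 := ev.acts_unique (by omega) hbs h3
      intro c hc
      rw [h4]
      exact h2 c hc
  obtain ⟨p, pk, pl, hp⟩ : ∃ p, p ≠ k ∧ p ≠ l ∧ Acts ε (rr ε' k p) (Equiv.swap i j) := by
    by_contra hcon
    push Not at hcon
    have h1 : cj y A₂ ≤ centralizer (A : Set G) := by
      refine le_of_rr_i ev' (by omega) k fun p pk => ?_
      by_cases pl : p = l
      · subst pl
        rw [← hr]
        exact mem_centralizer_iff.mpr fun a ha => ev.comm_mem ha (rr_mem ev i j)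
      · rcases hact _ (rr_mem ev' k p) with h2 | h2
        · exact ev.acts_one_iff.mp h2
        · exact absurd h2 (hcon p pk pl)
    exact hij (Equiv.swap_eq_one_iff.mp (ev.acts_unique (by omega) hbs (ev.acts_one_iff.mpr (h1 hb))))
  have hr0 : rr ε' k l ∈ E3 ev' k l p := mem_E3.2 (Or.inr (Or.inl rfl))
  have m2 : rr ε' k p ∈ E3 ev' k l p := mem_E3.2 (Or.inr (Or.inr (Or.inl rfl)))
  have m3 : rr ε' l p ∈ E3 ev' k l p := mem_E3.2 (Or.inr (Or.inr (Or.inr rfl)))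
  have hEA : E3 ev' k l p ≤ cj y A₂ := by
    intro x hx
    rcases mem_E3.1 hx with rfl | rfl | rfl | rfl
    · exact one_mem _
    · exact rr_mem ev' _ _
    · exact rr_mem ev' _ _
    · exact rr_mem ev' _ _
  refine IId.MixS.mix_sym s₁ hij ⟨b, hl.le ?_, hbs⟩ hc (V₁ := E3 ev' k l p)
    (card_E3 ev' hn5' hkl pk.symm pl.symm) (fun v hv => ev'.sq_mem (hEA hv)) (hr ▸ hr0) ?_ ?_
    ⟨_, m2, hp⟩ (fun g hg v hv w hw => c2 g hg v (hEA hv) w (hEA hw)) ?_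
  · have h1 := hl.split₂.A_le
    rw [mem_cj] at hb ⊢
    exact h1 hb
  · intro v hv hv1
    rw [hr]
    rcases mem_E3.1 hv with rfl | rfl | rfl | rfl
    · exact absurd rfl hv1
    · exact ⟨1, one_mem _, by group⟩
    · obtain ⟨g, hg, hσ⟩ := ev'.full (Equiv.swap l p)
      have e1 : Equiv.swap l p k = k := Equiv.swap_apply_of_ne_of_ne hkl pk.symm
      have e2 : Equiv.swap l p l = p := Equiv.swap_apply_left _ _
      have e3 : Equiv.swap l p p = l := Equiv.swap_apply_right _ _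
      refine ⟨g, norm_E3 ev' hσ ?_ ?_ ?_, ?_⟩
      · rw [e1, e2]; exact m2
      · rw [e1, e3]; exact hr0
      · rw [e2, e3, rr_symm ev']; exact m3
      · rw [rr_conj hσ, e1, e2]
    · obtain ⟨g, hg, hσ⟩ := ev'.full (Equiv.swap k p)
      have e1 : Equiv.swap k p l = l := Equiv.swap_apply_of_ne_of_ne hkl.symm pl.symm
      have e2 : Equiv.swap k p k = p := Equiv.swap_apply_left _ _
      have e3 : Equiv.swap k p p = k := Equiv.swap_apply_right _ _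
      refine ⟨g, norm_E3 ev' hσ ?_ ?_ ?_, ?_⟩
      · rw [e1, e2, rr_symm ev']; exact m3
      · rw [e2, e3, rr_symm ev']; exact m2
      · rw [e1, e3, rr_symm ev']; exact hr0
      · rw [rr_conj hσ, e1, e2, rr_symm ev']
  · rw [hNN]
    exact hEA.trans (f₂.le k l hkl)
  · intro g hg v hv w hw
    obtain ⟨v0, hv0, a, ha, rfl⟩ := s₁.mul_eq hv
    obtain ⟨w0, hw0, b, hb, rfl⟩ := s₁.mul_eq hw
    have hgQ := le_normalizer_o2 _ hg
    have hwQ : g * (w0 * b) * g⁻¹ ∈ o2 (NN ε i j) :=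
      (mem_normalizer_iff.mp hgQ _).mp (s₁.V_le hij hw)
    have haQ : g⁻¹ * a * g ∈ o2 (NN ε i j) := by
      have h1 := (mem_normalizer_iff.mp (inv_mem hgQ) _).mp (s₁.fac.le i j hij ha)
      rwa [inv_inv] at h1
    have e1 : v0 * (g * (w0 * b) * g⁻¹) = g * (w0 * b) * g⁻¹ * v0 := (s₁.comm_V0 hij hwQ hv0).symm
    have e2 : g⁻¹ * a * g * w0 = w0 * (g⁻¹ * a * g) := s₁.comm_V0 hij haQ hw0
    have e3 := c1 g hg a ha b hb
    calc v0 * a * (g * (w0 * b) * g⁻¹) = v0 * (g * (g⁻¹ * a * g * w0) * g⁻¹ * (g * b * g⁻¹)) := by group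
      _ = v0 * (g * w0 * g⁻¹ * (a * (g * b * g⁻¹))) := by rw [e2]; group
      _ = v0 * (g * (w0 * b) * g⁻¹) * a := by rw [e3]; group
      _ = _ := by rw [e1]; group

end pair

end Cfsg.Agent.Omega.F4Leaf.Syl.Mix

end

section


/-!
# LeafF4: mixed pairs, natural partner (helper300)

* `natBoth` : `(P₁, P₂)` mutual, `P₁` of type `S_{2^m+1}`, `P₂` natural for `SL_2(2)` (`V₀ ≠ 1` or `m = 2`): either
  `⟨V^{C_G(n)}⟩` is nonabelian, or `(P₂, P₂)` is a mutual pair.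
-/

set_option autoImplicit false

namespace Cfsg.Agent.Omega.F4Leaf.Syl.Mix

open Subgroup Pointwise Cfsg Cfsg.Agent Cfsg.Agent.Omega.MinPar
open Cfsg.Agent.ZN (o2 zc zl)
open Cfsg.Agent.ZN.ChoiceBase
open Cfsg.Agent.Omega.FrameFF (cv Single Free)
open Cfsg.Agent.Omega.FrameMulti (IsNat)
open Cfsg.Agent.Omega.S5.Def Cfsg.Agent.Omega.S5.Pair
open Cfsg.Agent.Omega.NSix.Base Cfsg.Agent.Omega.NSix.Basic
open Cfsg.Agent.Omega.F4Leaf.Def Cfsg.Agent.Omega.F4Leaf.Main Cfsg.Agent.Omega.F4Leaf.Facts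
open Cfsg.Agent.Omega.NTwo (comm_iff mem_cent mem_smul)
open Cfsg.Agent.MinSimple.VModule (o2_isPGroup o2_le le_normalizer_o2 o2_le_of_sylow mem_zc zc_le zl_sq zc_le_zl
  le_normalizer_zl)

universe u

variable {G : Type u} [Group G] [Finite G] {S : Sylow 2 G} {P₁ P₂ : Subgroup G} {y : G} {m : ℕ} {A : Subgroup G}
  {ε : (Fin (2 ^ m + 1) → ZMod 2) → G}

/-- **MIXED pairs, natural partner.** -/
theorem natBoth (hG : IsCharacteristicTwoType G) (hl : LabZ S P₁ P₂ y m A ε) (hm : 2 ≤ m)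
    (hN : IsNat (S : Subgroup G) P₂ 1) (hc : cv (S : Subgroup G) P₁ ≠ ⊥ ∨ m = 2) {i j : Fin (2 ^ m + 1)} (hij : i ≠ j)
    (hb : ∃ b ∈ cj y (zl (S : Subgroup G) P₂), Acts ε b (Equiv.swap i j)) :
    (∀ o, o ≠ i → o ≠ j → NonAb ε i j o) ∨ ∃ g, Mutual (S : Subgroup G) P₂ P₂ g := by
  by_contra hcon
  push Not at hcon
  obtain ⟨⟨o, oi, oj, hn1⟩, hn2⟩ := hcon
  obtain ⟨F, i1, i2, i3, ⟨M⟩⟩ := hN
  have hF := F4Leaf.NatStep.card_F hG hm hl M
  have ev := hl.split.even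
  have hP₂ := hl.pair.star₂
  have s₁ : Pos.Sit S P₁ m A ε := ⟨hG, hl.pair.star₁, hm, hl.split⟩
  obtain ⟨r, hr, hrw⟩ := Cen.Entry.nat_two hG hP₂ M hF
  obtain ⟨K, N, s⟩ := MixOne.exists_spl hG hP₂ M.natOver (HOne.splitPar_of_two hG S hP₂ M.natOver hF)
  have hcard : Nat.card (HOne.Main.vx (S : Subgroup G) P₂) = 4 := by
    rw [N.card_V, hF]
    norm_num
  obtain ⟨b, hb, hbs⟩ := hb
  have e0 := hbs.single i
  rw [Equiv.swap_apply_left] at e0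
  have hne1 : rr ε i j ≠ 1 := rr_ne_one ev s₁.three hij
  have hrr : rr ε i j * rr ε i j = 1 := rr_sq ev i j
  -- `S^y` acts on `V'`
  have hact : ∀ q ∈ cj y (S : Subgroup G), ∀ w ∈ cj y (zl (S : Subgroup G) P₂),
      q * w * q⁻¹ = w ∨ q * w * q⁻¹ = (y * r * y⁻¹) * w := by
    intro q hq w hw
    rcases hrw _ (mem_cj.1 hq) _ (mem_cj.1 hw) with h1 | h1
    · left
      calc q * w * q⁻¹ = y * (y⁻¹ * q * y * (y⁻¹ * w * y) * (y⁻¹ * q * y)⁻¹) * y⁻¹ := by group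
        _ = w := by rw [h1]; group
    · right
      calc q * w * q⁻¹ = y * (y⁻¹ * q * y * (y⁻¹ * w * y) * (y⁻¹ * q * y)⁻¹) * y⁻¹ := by group
        _ = (y * r * y⁻¹) * w := by rw [h1]; group
  have h0 : zz ε i ∈ zl (S : Subgroup G) P₁ := hl.split.A_le (zz_mem ev i)
  have hcomm : zz ε i * b * (zz ε i)⁻¹ * b⁻¹ = rr ε i j := by
    rw [show (zz ε i)⁻¹ = zz ε i from ev.inv _, rr]
    calc zz ε i * b * zz ε i * b⁻¹ = zz ε i * (b * zz ε i * b⁻¹) := by group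
      _ = zz ε i * zz ε j := by rw [show b * zz ε i * b⁻¹ = zz ε j from e0]
  -- `n = r^y`
  have hnr : rr ε i j = y * r * y⁻¹ := by
    rcases hact _ (hl.ge h0) b hb with h1 | h1
    · rw [h1, mul_inv_cancel] at hcomm
      exact absurd hcomm.symm hne1
    · rw [h1, mul_inv_cancel_right] at hcomm
      exact hcomm.symm
  have hSn : ∀ q ∈ cj y (S : Subgroup G), q * rr ε i j * q⁻¹ = rr ε i j := by
    intro q hq
    have h1 : (y⁻¹ * q * y) * r * (y⁻¹ * q * y)⁻¹ = r := comm_iff.2 ((MinSimple.VModule.mem_zc.1 hr).2.1 _ (mem_cj.1 hq))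
    rw [hnr]
    calc q * (y * r * y⁻¹) * q⁻¹ = y * ((y⁻¹ * q * y) * r * (y⁻¹ * q * y)⁻¹) * y⁻¹ := by group
      _ = y * r * y⁻¹ := by rw [h1]
  have hSn' : ((y • S : Sylow 2 G) : Subgroup G) ≤ centralizer {rr ε i j} := by
    intro x hx
    rw [mem_smul] at hx
    exact mem_cent.2 (hSn x (mem_cj.2 hx))
  have hQS : ∀ q ∈ o2 (centralizer ({rr ε i j} : Set G)), q ∈ cj y (S : Subgroup G) := by
    intro q hq
    have h2 := o2_le_of_sylow (y • S : Sylow 2 G).isPGroup'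
      (MinSimple.Basic.not_dvd_relIndex (y • S : Sylow 2 G) hSn') hq
    rw [mem_cj]
    exact mem_smul.1 h2
  have hQW : ∀ q ∈ o2 (centralizer ({rr ε i j} : Set G)), ∀ w ∈ cj y (zl (S : Subgroup G) P₂),
      q * w * q⁻¹ = w ∨ q * w * q⁻¹ = rr ε i j * w := by
    intro q hq w hw
    rw [hnr]
    exact hact q (hQS q hq) w hw
  have hWQ : cj y (zl (S : Subgroup G) P₂) ≤ o2 (centralizer ({rr ε i j} : Set G)) := by
    intro w hw
    have hwS : w ∈ cj y (S : Subgroup G) := by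
      rw [mem_cj] at hw ⊢
      exact ((hP₂.isLoc.zl_le S hG).trans (zc_le _)).trans (hP₂.isLoc.o2_le S) hw
    refine S5.Mod.le_o2_of_comm hG (by rw [sq]; exact hrr) hne1 (comm_iff.1 (hSn w hwS)) fun q hq => ?_
    rcases hQW q hq w hw with h1 | h1
    · left
      rw [comm_iff] at h1
      calc w * q * w⁻¹ * q⁻¹ = (q * w) * w⁻¹ * q⁻¹ := by rw [h1]
        _ = 1 := by group
    · right
      have h2 : q * w = rr ε i j * w * q := by rw [← h1]; group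
      calc w * q * w⁻¹ * q⁻¹ = rr ε i j * rr ε i j * w * q * w⁻¹ * q⁻¹ := by rw [hrr, one_mul]
        _ = rr ε i j * (rr ε i j * w * q) * w⁻¹ * q⁻¹ := by group
        _ = rr ε i j * (q * w) * w⁻¹ * q⁻¹ := by rw [h2]
        _ = rr ε i j := by group
  -- `Q_n ≤ P₂^y`
  have hQP : o2 (NN ε i j) ≤ cj y P₂ := by
    intro q hq
    have h1 := hQS q hq
    rw [mem_cj] at h1 ⊢
    exact hP₂.le h1
  have hQn : ∀ g ∈ NN ε i j, ∀ x, x ∈ o2 (NN ε i j) → g⁻¹ * x * g ∈ o2 (NN ε i j) := fun g hg x hx => by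
    have := (mem_normalizer_iff.mp (le_normalizer_o2 _ (inv_mem hg)) x).mp hx
    rwa [inv_inv] at this
  have hQn' : ∀ g ∈ NN ε i j, ∀ x, x ∈ o2 (NN ε i j) → g * x * g⁻¹ ∈ o2 (NN ε i j) := fun g hg x hx =>
    (mem_normalizer_iff.mp (le_normalizer_o2 _ hg) x).mp hx
  have hPV : P₂ ≤ normalizer (zl (S : Subgroup G) P₂ : Set G) := le_normalizer_zl _ _
  -- `⟨V'^{C(n)}⟩` is abelian
  have c2 : ∀ g ∈ NN ε i j, ∀ v ∈ cj y (zl (S : Subgroup G) P₂), ∀ w ∈ cj y (zl (S : Subgroup G) P₂),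
      v * (g * w * g⁻¹) = g * w * g⁻¹ * v := by
    intro g hg v hv w hw
    by_contra hne
    refine hn2 (y⁻¹ * g * y) ⟨hP₂, hP₂, ?_, ?_, ?_⟩
    · -- `V' ≤ N(V'^g)`
      intro x hx
      have h1 : y * x * y⁻¹ ∈ o2 (NN ε i j) := hWQ (by
        rw [mem_cj]
        have e : y⁻¹ * (y * x * y⁻¹) * y = x := by group
        rwa [e])
      have h2 := hQP (hQn g hg _ h1)
      rw [mem_cj] at h2
      have h3 := mem_normalizer_iff.mp (hPV h2)
      change x ∈ normalizer ((cj (y⁻¹ * g * y) (zl (S : Subgroup G) P₂) : Subgroup G) : Set G)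
      rw [mem_normalizer_iff]
      intro w
      rw [mem_cj, mem_cj, h3]
      have e : y⁻¹ * (g⁻¹ * (y * x * y⁻¹) * g) * y * ((y⁻¹ * g * y)⁻¹ * w * (y⁻¹ * g * y)) *
          (y⁻¹ * (g⁻¹ * (y * x * y⁻¹) * g) * y)⁻¹ = (y⁻¹ * g * y)⁻¹ * (x * w * x⁻¹) * (y⁻¹ * g * y) := by group
      rw [e]
    · intro x hx
      have hx' : x ∈ cj (y⁻¹ * g * y) (zl (S : Subgroup G) P₂) := hx
      rw [mem_cj] at hx'
      have h1 : g⁻¹ * (y * x * y⁻¹) * g ∈ o2 (NN ε i j) := hWQ (by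
        rw [mem_cj]
        have e : y⁻¹ * (g⁻¹ * (y * x * y⁻¹) * g) * y = (y⁻¹ * g * y)⁻¹ * x * (y⁻¹ * g * y) := by group
        rwa [e])
      have h2 := hQP (hQn' g hg _ h1)
      have e : g * (g⁻¹ * (y * x * y⁻¹) * g) * g⁻¹ = y * x * y⁻¹ := by group
      rw [e, mem_cj] at h2
      have e' : y⁻¹ * (y * x * y⁻¹) * y = x := by group
      rw [e'] at h2
      exact hPV h2
    · intro h0
      apply hne
      rw [commutator_eq_bot_iff_le_centralizer] at h0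
      rw [mem_cj] at hv hw
      have h2 : y⁻¹ * (g * w * g⁻¹) * y ∈ cj (y⁻¹ * g * y) (zl (S : Subgroup G) P₂) := by
        rw [mem_cj]
        have e : (y⁻¹ * g * y)⁻¹ * (y⁻¹ * (g * w * g⁻¹) * y) * (y⁻¹ * g * y) = y⁻¹ * w * y := by group
        rwa [e]
      have h3 := (mem_centralizer_iff.mp (h0 hv)) _ h2
      calc v * (g * w * g⁻¹) = y * (y⁻¹ * v * y * (y⁻¹ * (g * w * g⁻¹) * y)) * y⁻¹ := by group
        _ = y * (y⁻¹ * (g * w * g⁻¹) * y * (y⁻¹ * v * y)) * y⁻¹ := by rw [h3]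
        _ = _ := by group
  have c1 : ∀ g ∈ NN ε i j, ∀ a ∈ A, ∀ b ∈ A, a * (g * b * g⁻¹) = g * b * g⁻¹ * a := by
    intro g hg a ha b hb
    by_contra h1
    exact hn1 (nonAb_of ev (by omega) hij oi oj ⟨g, hg, a, ha, b, hb, h1⟩)
  -- the four-group
  set V₁ : Subgroup G := cj y (HOne.Main.vx (S : Subgroup G) P₂) with hV₁
  have hVV : V₁ ≤ cj y (zl (S : Subgroup G) P₂) := cj_mono y s.NV
  have hnorm : P₂ ≤ normalizer (HOne.Main.vx (S : Subgroup G) P₂ : Set G) := s.PK.trans N.le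
  have hnorm' : cj y P₂ ≤ normalizer (V₁ : Set G) := by
    intro x hx
    rw [mem_cj] at hx
    have h3 := mem_normalizer_iff.mp (hnorm hx)
    rw [mem_normalizer_iff]
    intro w
    rw [hV₁, mem_cj, mem_cj, h3]
    have e : y⁻¹ * x * y * (y⁻¹ * w * y) * (y⁻¹ * x * y)⁻¹ = y⁻¹ * (x * w * x⁻¹) * y := by group
    rw [e]
  -- `b = b₀ d`
  rw [mem_cj] at hb
  obtain ⟨b₀, hb₀, d, hd, hbd⟩ := s.dec _ hb
  have hb' : b = y * b₀ * y⁻¹ * (y * d * y⁻¹) := by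
    calc b = y * (y⁻¹ * b * y) * y⁻¹ := by group
      _ = _ := by rw [hbd]; group
  have hdc : ∀ x ∈ cj y P₂, x * (y * d * y⁻¹) = y * d * y⁻¹ * x := by
    intro x hx
    rw [mem_cj] at hx
    have h1 := mem_centralizer_iff.mp (s.cen hx) d hd
    calc x * (y * d * y⁻¹) = y * (y⁻¹ * x * y * d) * y⁻¹ := by group
      _ = y * (d * (y⁻¹ * x * y)) * y⁻¹ := by rw [h1]
      _ = _ := by group
  have hSP : cj y (S : Subgroup G) ≤ cj y P₂ := cj_mono y hP₂.le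
  have hAy : ∀ a ∈ zl (S : Subgroup G) P₁, a ∈ cj y P₂ := fun a ha => hSP (hl.ge ha)
  have hb₀V : y * b₀ * y⁻¹ ∈ V₁ := by
    rw [hV₁, mem_cj]
    have e : y⁻¹ * (y * b₀ * y⁻¹) * y = b₀ := by group
    rwa [e]
  have hdA : Acts ε (y * d * y⁻¹) 1 := by
    rw [ev.acts_one_iff, mem_centralizer_iff]
    intro a ha
    exact hdc a (hAy a (hl.split.A_le ha))
  have hb₀s : Acts ε (y * b₀ * y⁻¹) (Equiv.swap i j) := by
    have e : y * b₀ * y⁻¹ = b * (y * d * y⁻¹)⁻¹ := by rw [hb', mul_inv_cancel_right]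
    rw [e]
    have := hbs.mul hdA.inv
    rwa [inv_one, mul_one] at this
  have hnV : rr ε i j ∈ V₁ := by
    have e1 : zz ε i * (y * d * y⁻¹) = y * d * y⁻¹ * zz ε i := hdc _ (hAy _ h0)
    rw [← hcomm, hb']
    have e2 : zz ε i * (y * b₀ * y⁻¹ * (y * d * y⁻¹)) * (zz ε i)⁻¹ * (y * b₀ * y⁻¹ * (y * d * y⁻¹))⁻¹ =
        zz ε i * (y * b₀ * y⁻¹) * (zz ε i)⁻¹ * (y * b₀ * y⁻¹)⁻¹ := by
      calc _ = zz ε i * (y * b₀ * y⁻¹) * ((y * d * y⁻¹) * (zz ε i)⁻¹ * (y * d * y⁻¹)⁻¹) * (y * b₀ * y⁻¹)⁻¹ := by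
            group
        _ = _ := by
            have e3 : (y * d * y⁻¹) * (zz ε i)⁻¹ * (y * d * y⁻¹)⁻¹ = (zz ε i)⁻¹ := by
              rw [show (zz ε i)⁻¹ = zz ε i from ev.inv _, ← e1, mul_inv_cancel_right]
            rw [e3]
    rw [e2]
    exact mul_mem ((mem_normalizer_iff.mp (hnorm' (hAy _ h0)) _).mp hb₀V) (inv_mem hb₀V)
  have hsq : ∀ v ∈ cj y (zl (S : Subgroup G) P₂), v * v = 1 := by
    intro v hv
    rw [mem_cj] at hv
    have h1 := zl_sq hP₂.le S.isPGroup' (MinSimple.Basic.not_dvd_relIndex S hP₂.le) (hP₂.isLoc.char2 S hG) _ hv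
    rw [pow_two] at h1
    calc v * v = y * (y⁻¹ * v * y * (y⁻¹ * v * y)) * y⁻¹ := by group
      _ = 1 := by rw [h1]; group
  refine IId.MixS.mix_sym s₁ hij ⟨b, ?_, hbs⟩ hc (V₁ := V₁) ?_ (fun v hv => hsq v (hVV hv)) hnV ?_ ?_
    ⟨_, hb₀V, hb₀s⟩ (fun g hg v hv w hw => c2 g hg v (hVV hv) w (hVV hw)) ?_
  · exact hl.le (mem_cj.2 hb)
  · rw [hV₁, ← hcard]
    exact card_cj y _
  · intro v hv hv1
    have hn0 : y⁻¹ * rr ε i j * y ∈ HOne.Main.vx (S : Subgroup G) P₂ := mem_cj.1 hnV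
    have hv0 : y⁻¹ * v * y ∈ HOne.Main.vx (S : Subgroup G) P₂ := mem_cj.1 hv
    obtain ⟨g, hg, hgv⟩ := s.trans _ hn0 (fun e => hne1 (by
      calc rr ε i j = y * (y⁻¹ * rr ε i j * y) * y⁻¹ := by group
        _ = 1 := by rw [e]; group)) _ hv0 (fun e => hv1 (by
      calc v = y * (y⁻¹ * v * y) * y⁻¹ := by group
        _ = 1 := by rw [e]; group))
    refine ⟨y * g * y⁻¹, hnorm' ?_, ?_⟩
    · rw [mem_cj]
      have e : y⁻¹ * (y * g * y⁻¹) * y = g := by group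
      rwa [e]
    · calc y * g * y⁻¹ * rr ε i j * (y * g * y⁻¹)⁻¹ = y * (g * (y⁻¹ * rr ε i j * y) * g⁻¹) * y⁻¹ := by group
        _ = v := by rw [hgv]; group
  · exact hVV.trans hWQ
  · intro g hg v hv w hw
    obtain ⟨v0, hv0, a, ha, rfl⟩ := s₁.mul_eq hv
    obtain ⟨w0, hw0, b, hb, rfl⟩ := s₁.mul_eq hw
    have hgQ := le_normalizer_o2 _ hg
    have hwQ : g * (w0 * b) * g⁻¹ ∈ o2 (NN ε i j) :=
      (mem_normalizer_iff.mp hgQ _).mp (s₁.V_le hij hw)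
    have haQ : g⁻¹ * a * g ∈ o2 (NN ε i j) := by
      have h1 := (mem_normalizer_iff.mp (inv_mem hgQ) _).mp (s₁.fac.le i j hij ha)
      rwa [inv_inv] at h1
    have e1 : v0 * (g * (w0 * b) * g⁻¹) = g * (w0 * b) * g⁻¹ * v0 := (s₁.comm_V0 hij hwQ hv0).symm
    have e2 : g⁻¹ * a * g * w0 = w0 * (g⁻¹ * a * g) := s₁.comm_V0 hij haQ hw0
    have e3 := c1 g hg a ha b hb
    calc v0 * a * (g * (w0 * b) * g⁻¹) = v0 * (g * (g⁻¹ * a * g * w0) * g⁻¹ * (g * b * g⁻¹)) := by group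
      _ = v0 * (g * w0 * g⁻¹ * (a * (g * b * g⁻¹))) := by rw [e2]; group
      _ = v0 * (g * (w0 * b) * g⁻¹) * a := by rw [e3]; group
      _ = _ := by rw [e1]; group

end Cfsg.Agent.Omega.F4Leaf.Syl.Mix

end
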