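import Cfsg.Agent.Mrg.Omega.F4Leaf.Syl.Main
import Cfsg.Agent.Mrg.Omega.F4Leaf.Syl.Inst
import Cfsg.Agent.Mrg.Omega.F4Leaf.Syl.Def
import Cfsg.Agent.Mrg.Omega.F4Leaf.Big.OneZ
import Cfsg.Agent.Mrg.Omega.F4Leaf.NoWrFree
import Cfsg.Agent.Mrg.Omega.HOne.NSSide
import Cfsg.Agent.Mrg.Omega.F4Leaf.Syl.Mix

section


/-!
# LeafF4: `HasFr` (helper628's `exists_fr` and helper758's LEMMA F), and the T-T pairs

* `hasFr : Main.HasFr`; `tt_big`, `tt_known` : the T-T pairs from `PosExit`; `leaf_of`, `leaf_of_end`.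
-/

set_option autoImplicit false

namespace Cfsg.Agent.Omega.F4Leaf.Syl.Plug

open Subgroup Cfsg Cfsg.Agent.ZN Cfsg.Agent.Omega.MinPar
open Cfsg.Agent.Omega.Frame Cfsg.Agent.Omega.FFThm
open Cfsg.Agent.Omega.FrameLE (AllIn)
open Cfsg.Agent.Omega.FrameFF (cv Single Free)
open Cfsg.Agent.Omega.FrameMulti (IsSym IsNat Typed AllTyped NoWr LeafF4)
open Cfsg.Agent.Omega.S5.Def
open Cfsg.Agent.Omega.NSix.Base Cfsg.Agent.Omega.NSix.Basic
open Cfsg.Agent.Omega.F4Leaf.Cen.Main (PosExit)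

universe u

/-- **`HasFr`** -/
theorem hasFr : Main.HasFr.{u} := by
  intro G _ _ S P m A ε hs hm hcv i j hij hi hj hd hw hM
  have hE := hs.split.even
  have hmov : ∃ i j, i ≠ j ∧ ∃ g ∈ NSix.Zero.WP ε i j, ¬ g ∈ centralizer (A : Set G) := by
    obtain ⟨w, hw, ha⟩ := hw
    exact ⟨i, j, hij, w, hw, fun h0 =>
      hij (Equiv.swap_eq_one_iff.mp (hE.acts_unique hs.three (hE.acts_one_iff.mpr h0) ha).symm)⟩
  have hP : TSyl.Part A ε i j := by
    obtain ⟨h, hh, hne⟩ := hM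
    exact ⟨h, hh, _, rr_mem hE i 0, _, rr_mem hE i 0, hne⟩
  exact Inst.exists_fr hs hm hij hi hj hd hmov hP (LemF.lemF_duad hs hmov hij hi hj hd) hcv

/-- **Two members of type `S_{2^m+1}`, `S_{2^m'+1}` of a mutual pair, not free.** -/
theorem tt_known (hX : PosExit.{u}) (G : Type u) [Group G] [Finite G] (hG : Ctx G) (S : Sylow 2 G)
    (hF : Full (S : Subgroup G)) (hI : AllIn (S : Subgroup G))
    (hT : AllTyped (S : Subgroup G)) (P₁ P₂ : Subgroup G) (x : G) (hm : Mutual (S : Subgroup G) P₁ P₂ x)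
    (hnf : ¬ (Free (S : Subgroup G) P₁ ∧ Free (S : Subgroup G) P₂)) (m m' : ℕ) (hm2 : 2 ≤ m) (hm2' : 2 ≤ m')
    (hS : IsSym (S : Subgroup G) P₁ 1 m) (hS' : IsSym (S : Subgroup G) P₂ 1 m') : IsKnownSimple' G :=
  Main.tt_known hX hasFr G hG S hF hI hT P₁ P₂ x hm hnf m m' hm2 hm2' hS hS'

theorem leaf_of {K : Cls.{u}} (hX : PosExit.{u}) (h2 : Main.NonAbNat.{u}) : LeafF4 K := Main.leaf hX hasFr h2

theorem leaf_of_end {K : Cls.{u}} (hX : PosExit.{u}) (h2 : Main.EndNat.{u}) : LeafF4 K :=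
  Main.leaf_of_end hX hasFr h2

end Cfsg.Agent.Omega.F4Leaf.Syl.Plug

end

section


/-!
# LeafF4, `n = r_ij` 2-central: the natural member `R` over `S` (helper778, bb OMEGA #21087, #21183, #21366)

* `TOne S ε i j T₁` : `T₁` is a Sylow 2-subgroup of `N = C_G(r_ij)`, it contains `C_S(r_ij)` and permutes
  `{r_i0, r_j0}` (helper758: (I));
* `ExG S P n c R k` : `Cen.Ex` for any `n`, `c`;
* `exists_exG` : `Sit`, type `T`, `V₀ ≠ 1`, `TOne`, `|G : N|` odd imply `ExG S P r_ij r_i0 R k` for some `R`, `k`;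
* `ExG.nonFree_nat`, `ExG.nonFree_tt` : the mutual pairs; `known_nat`, `known_tt`, `known_self` : `G` is known.
-/

set_option autoImplicit false
set_option linter.dupNamespace false
set_option linter.unusedSectionVars false

namespace Cfsg.Agent.Omega.F4Leaf.Syl.EndC

open Subgroup Pointwise Cfsg Cfsg.Agent Cfsg.Agent.Omega.MinPar
open Cfsg.Agent.ZN (o2 zc zl)
open Cfsg.Agent.ZN.ChoiceBase (cj mem_cj)
open Cfsg.Agent.Omega.Frame Cfsg.Agent.Omega.FFThm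
open Cfsg.Agent.Omega.FrameLE (AllIn)
open Cfsg.Agent.Omega.FrameFF (cv Single Free)
open Cfsg.Agent.Omega.FrameMulti (IsSym IsNat Typed AllTyped)
open Cfsg.Agent.Omega.HOne.Main (NonFree)
open Cfsg.Agent.Omega.S5.Def Cfsg.Agent.Omega.S5.Syl Cfsg.Agent.Omega.F4Leaf.Def
open Cfsg.Agent.Omega.F4Leaf.Pos Cfsg.Agent.Omega.F4Leaf.Facts
open Cfsg.Agent.Omega.NSix.Base Cfsg.Agent.Omega.NSix.Basic
open Cfsg.Agent.Omega.NSix.Zero (WP mem_WP WP_norm WP_conj)
open Cfsg.Agent.Omega.F4Leaf.Cen (dbl mem_dbl le_dbl u_mem_dbl dbl_eq_of_lt card_dbl le_normalizer_of)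
open Cfsg.Agent.Omega.F4Leaf.Cen.Main (PosExit)
open Cfsg.Agent.Omega.NTwo (cm cc ci comm_iff mem_cent o2_cent_conj o2_cent_conj' mem_csmul csmul_mem)
open Cfsg.Agent.MinSimple.VModule (o2_isPGroup o2_le le_o2 le_normalizer_o2 o2_le_of_sylow mem_zc zc_le
  le_normalizer_zl zl_comm zl_sq zc_le_zl zl_le normalizer_le_normalizer_zc)

universe u

variable {G : Type u} [Group G]

/-- `T₁` is a Sylow 2-subgroup of `C_G(r_ij)` containing `C_S(r_ij)`, it permutes `{r_i0, r_j0}`. -/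
structure TOne [Finite G] (S : Subgroup G) {n : ℕ} [NeZero n] (ε : (Fin n → ZMod 2) → G) (i j : Fin n)
    (T : Subgroup G) : Prop where
  le : T ≤ NN ε i j
  pg : IsPGroup 2 T
  odd : ¬ 2 ∣ T.relIndex (NN ε i j)
  ge : S ⊓ NN ε i j ≤ T
  line : ∀ t ∈ T, t * rr ε i 0 * t⁻¹ = rr ε i 0 ∨ t * rr ε i 0 * t⁻¹ = rr ε j 0

/-- The natural member `R` found over `S`, in the position of `O₂(C(n))`. -/
structure ExG [Finite G] (S : Sylow 2 G) (P : Subgroup G) (n c : G) (R : Subgroup G) (k : G) : Prop where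
  star : IsParS (S : Subgroup G) R
  card : Nat.card (zl (S : Subgroup G) R) = 2 * Nat.card (zc (S : Subgroup G))
  ne : cv (S : Subgroup G) R ≠ ⊥
  VQ : ∀ x ∈ zl (S : Subgroup G) R, k * x * k⁻¹ ∈ o2 (centralizer {n})
  QS : ∀ q ∈ o2 (centralizer {n}), k⁻¹ * q * k ∈ (S : Subgroup G)
  c_mem : k⁻¹ * c * k ∈ zl (S : Subgroup G) R
  cen : ∀ x ∈ zl (S : Subgroup G) P, (∀ q ∈ o2 (centralizer {n}), q * x = x * q) ∨
    ∀ q ∈ o2 (centralizer {n}), q * (x * c) = x * c * q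
  V_Q : zl (S : Subgroup G) P ≤ o2 (centralizer {n})
  c_V : c ∈ zl (S : Subgroup G) P

/-! ### The elements of `V` -/

section coord

variable [Finite G] {S : Sylow 2 G} {P : Subgroup G} {m : ℕ} {A : Subgroup G}
  {ε : (Fin (2 ^ m + 1) → ZMod 2) → G} (h : Sit S P m A ε) {i j : Fin (2 ^ m + 1)}
include h

theorem comm_of_eq (hij : i ≠ j) {x : Fin (2 ^ m + 1) → ZMod 2} (hx : x i = x j) {q : G}
    (hq : q ∈ o2 (NN ε i j)) : q * ε x = ε x * q := by
  rw [← mul_inv_eq_iff_eq_mul]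
  rcases h.acts hij hq with h1 | h1
  · rw [h1 x]; rfl
  · rw [h1 x]
    congr 1
    funext k
    rw [Function.comp, Equiv.symm_swap]
    by_cases hi : k = i
    · rw [hi, Equiv.swap_apply_left, hx]
    by_cases hj : k = j
    · rw [hj, Equiv.swap_apply_right, hx]
    rw [Equiv.swap_apply_of_ne_of_ne hi hj]

theorem eq_of_comm {w : G} (hw : Acts ε w (Equiv.swap i j)) {x : Fin (2 ^ m + 1) → ZMod 2}
    (hx : w * ε x = ε x * w) : x i = x j := by
  rw [← mul_inv_eq_iff_eq_mul, hw x, h.split.even.eq_iff] at hx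
  rcases hx with h1 | h1
  · have h2 := congrFun h1 j
    rw [Function.comp, Equiv.symm_swap, Equiv.swap_apply_right] at h2
    exact h2
  · exfalso
    have hcard : ({i, j} : Finset (Fin (2 ^ m + 1))).card < (Finset.univ : Finset (Fin (2 ^ m + 1))).card := by
      rw [Finset.card_univ, Fintype.card_fin]
      have := h.three
      exact lt_of_le_of_lt Finset.card_le_two (by omega)
    obtain ⟨k, -, hk⟩ := Finset.exists_mem_notMem_of_card_lt_card hcard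
    simp only [Finset.mem_insert, Finset.mem_singleton, not_or] at hk
    have h2 := congrFun h1 k
    rw [Function.comp, Equiv.symm_swap, Equiv.swap_apply_of_ne_of_ne hk.1 hk.2, Pi.add_apply, Pi.one_apply] at h2
    have h3 : (0 : ZMod 2) = 1 := add_left_cancel (a := x k) (by rw [add_zero]; exact h2)
    exact zero_ne_one h3

theorem rr_V (a b : Fin (2 ^ m + 1)) : rr ε a b ∈ zl (S : Subgroup G) P := h.split.A_le (rr_mem h.split.even a b)

/-- `C_V(O₂(C(r_ij)))` has index 2 in `V` -/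
theorem cen_or (hij : i ≠ j) (hi : i ≠ 0) (hj : j ≠ 0) {x : G} (hx : x ∈ zl (S : Subgroup G) P) :
    (∀ q ∈ o2 (NN ε i j), q * x = x * q) ∨ ∀ q ∈ o2 (NN ε i j), q * (x * rr ε i 0) = x * rr ε i 0 * q := by
  obtain ⟨v, hv, a, ha, rfl⟩ := h.mul_eq hx
  obtain ⟨y, rfl⟩ := h.split.even.surj a ha
  have key : ∀ y' : Fin (2 ^ m + 1) → ZMod 2, y' i = y' j → ∀ q ∈ o2 (NN ε i j), q * (v * ε y') = v * ε y' * q := by
    intro y' hy q hq
    have h1 := h.comm_V0 hij hq hv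
    have h2 := comm_of_eq h hij hy hq
    calc q * (v * ε y') = q * v * ε y' := by group
      _ = v * (q * ε y') := by rw [h1]; group
      _ = v * ε y' * q := by rw [h2]; group
  by_cases hy : y i = y j
  · exact Or.inl (key y hy)
  · right
    have h1 : (y + (Pi.single i 1 + Pi.single 0 1) : Fin (2 ^ m + 1) → ZMod 2) i =
        (y + (Pi.single i 1 + Pi.single 0 1) : Fin (2 ^ m + 1) → ZMod 2) j := by
      rw [Pi.add_apply, Pi.add_apply, Pi.add_apply, Pi.add_apply, Pi.single_eq_same, Pi.single_eq_of_ne hi,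
        Pi.single_eq_of_ne hij.symm, Pi.single_eq_of_ne hj, add_zero, add_zero, add_zero]
      revert hy
      generalize y i = a
      generalize y j = b
      revert a b
      decide
    intro q hq
    have h2 := key _ h1 q hq
    have h3 : v * ε (y + (Pi.single i 1 + Pi.single 0 1)) = v * ε y * rr ε i 0 := by
      rw [h.split.even.add, h.split.even.add, rr, zz, zz, mul_assoc]
    rwa [h3] at h2

end coord

/-! ### The member -/

section main

variable [Finite G] {S : Sylow 2 G} {P : Subgroup G} {m : ℕ} {A : Subgroup G}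
  {ε : (Fin (2 ^ m + 1) → ZMod 2) → G} (h : Sit S P m A ε)
  (hN : ∃ i j, i ≠ j ∧ ∃ g ∈ WP ε i j, ¬ g ∈ centralizer (A : Set G)) {i j : Fin (2 ^ m + 1)} {T : Subgroup G}
include h

theorem o2_le_T (hT : TOne (S : Subgroup G) ε i j T) : o2 P ≤ T := by
  intro q hq
  refine hT.ge ⟨h.o2_le_S hq, mem_NN.2 ?_⟩
  exact ((mem_zc.1 (h.V_le_zc (rr_V h i j))).2.1 q hq)

theorem V_le_T (hT : TOne (S : Subgroup G) ε i j T) : zl (S : Subgroup G) P ≤ T :=
  h.V_le_zc.trans ((zc_le _).trans (o2_le_T h hT))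

theorem Q_le_T (hT : TOne (S : Subgroup G) ε i j T) : o2 (NN ε i j) ≤ T := o2_le_of_sylow hT.pg hT.odd

theorem rr_zc (hT : TOne (S : Subgroup G) ε i j T) : rr ε i j ∈ zc T :=
  mem_zc.2 ⟨V_le_T h hT (rr_V h i j), fun t ht => mem_NN.1 (hT.le ht), by
    rw [pow_two]; exact rr_sq h.split.even i j⟩

/-- the elements of `Ω₁Z(T)` centralised by `O₂(C(r_i0))` -/
def Z0 (T : Subgroup G) (ε : (Fin (2 ^ m + 1) → ZMod 2) → G) (i : Fin (2 ^ m + 1)) : Subgroup G :=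
  zc T ⊓ centralizer (o2 (NN ε i 0) : Set G)

theorem rr_mul (i j k : Fin (2 ^ m + 1)) : rr ε i j * rr ε i k = rr ε j k := by
  rw [rr, rr, rr, zz, zz, zz]
  calc ε (Pi.single i 1) * ε (Pi.single j 1) * (ε (Pi.single i 1) * ε (Pi.single k 1))
      = ε (Pi.single j 1) * (ε (Pi.single i 1) * ε (Pi.single i 1)) * ε (Pi.single k 1) := by
        rw [h.split.even.comm (Pi.single i 1) (Pi.single j 1)]; group
    _ = ε (Pi.single j 1) * ε (Pi.single k 1) := by rw [h.split.even.sq, mul_one]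

/-- an element moving `i` to `0` does not fix `r_ij` -/
theorem rr_ne (hi : i ≠ 0) : rr ε i j ≠ rr ε 0 j := by
  intro h0
  have h1 : zz ε i = zz ε 0 := mul_right_cancel h0
  exact hi (h.split.even.single_inj h.three h1)

include hN

theorem zc_mul (hij : i ≠ j) (hi : i ≠ 0) (hj : j ≠ 0) (hT : TOne (S : Subgroup G) ε i j T) {z : G}
    (hz : z ∈ zc T) : z ∈ Z0 T ε i ∨ z * rr ε i j ∈ Z0 T ε i := by
  have hV := h.zc_le_V hN (o2_le_T h hT) hz
  obtain ⟨w, hw, hws⟩ := h.mov hN hij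
  have hwT : w ∈ T := Q_le_T h hT (h.fac.ww h.c2 h.three hij hw)
  have hzw := (mem_zc.1 hz).2.1 w hwT
  obtain ⟨v, hv, a, ha, rfl⟩ := h.mul_eq hV
  obtain ⟨y, rfl⟩ := h.split.even.surj a ha
  have h1 := h.comm_V0 hij (h.fac.ww h.c2 h.three hij hw) hv
  have h2 : w * ε y = ε y * w := by
    have h3 : v * (w * ε y) = v * (ε y * w) := by
      calc v * (w * ε y) = v * w * ε y := by group
        _ = w * (v * ε y) := by rw [← h1]; group
        _ = v * (ε y * w) := by rw [hzw]; group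
    exact mul_left_cancel h3
  have hyij := eq_of_comm h hws h2
  have key : ∀ y' : Fin (2 ^ m + 1) → ZMod 2, y' i = y' 0 → v * ε y' ∈ centralizer (o2 (NN ε i 0) : Set G) := by
    intro y' hy
    refine mem_centralizer_iff.2 fun q hq => ?_
    have h1 := h.comm_V0 hi hq hv
    have h2 := comm_of_eq h hi hy hq
    calc q * (v * ε y') = q * v * ε y' := by group
      _ = v * (q * ε y') := by rw [h1]; group
      _ = v * ε y' * q := by rw [h2]; group
  by_cases hy : y i = y 0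
  · exact Or.inl ⟨hz, key y hy⟩
  · right
    refine ⟨mul_mem hz (rr_zc h hT), ?_⟩
    have h1 : (y + (Pi.single i 1 + Pi.single j 1) : Fin (2 ^ m + 1) → ZMod 2) i =
        (y + (Pi.single i 1 + Pi.single j 1) : Fin (2 ^ m + 1) → ZMod 2) 0 := by
      rw [Pi.add_apply, Pi.add_apply, Pi.add_apply, Pi.add_apply, Pi.single_eq_same, Pi.single_eq_of_ne hij,
        Pi.single_eq_of_ne hi.symm, Pi.single_eq_of_ne hj.symm, add_zero, add_zero, add_zero]
      revert hy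
      generalize y i = a
      generalize y 0 = b
      revert a b
      decide
    have h2 := key _ h1
    have h3 : v * ε (y + (Pi.single i 1 + Pi.single j 1)) = v * ε y * rr ε i j := by
      rw [h.split.even.add, h.split.even.add, rr, zz, zz, mul_assoc]
    rwa [h3] at h2

/-- **the member over `T`** -/
theorem exists_R (hcv : cv (S : Subgroup G) P ≠ ⊥) (hij : i ≠ j) (hi : i ≠ 0) (hj : j ≠ 0)
    (hT : TOne (S : Subgroup G) ε i j T) (S₁ : Sylow 2 G) (hS₁ : (S₁ : Subgroup G) = T) :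
    ∃ R : Subgroup G, IsParS T R ∧ Nat.card (zl T R) = 2 * Nat.card (zc T) ∧ cv T R ≠ ⊥ ∧
      zl T R ≤ zl (S : Subgroup G) P ∧ rr ε i 0 ∈ zl T R := by
  classical
  have hE := h.split.even
  have h3 := h.three
  have hV := h.zc_le_V hN (o2_le_T h hT)
  obtain ⟨w, hw, hws⟩ := h.mov hN hij
  have hwT : w ∈ T := Q_le_T h hT (h.fac.ww h.c2 h.three hij hw)
  obtain ⟨w0, hw0, hw0s⟩ := h.mov hN hi
  have hw0Q : w0 ∈ o2 (NN ε i 0) := h.fac.ww h.c2 h.three hi hw0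
  have hrz := rr_zc h hT
  -- `r_i0`
  have hu : rr ε i 0 * rr ε i 0 = 1 := rr_sq hE i 0
  have hzT : ∀ z ∈ zc T, ∀ t ∈ T, t * z = z * t := fun z hz => (mem_zc.1 hz).2.1
  have hc : ∀ z ∈ zc T, z * rr ε i 0 = rr ε i 0 * z := fun z hz =>
    (hzT z hz _ (V_le_T h hT (rr_V h i 0))).symm
  have hwr : w * rr ε i 0 * w⁻¹ = rr ε j 0 := by
    rw [rr_conj hws, Equiv.swap_apply_left, Equiv.swap_apply_of_ne_of_ne hi.symm hj.symm]
  have hr0 : rr ε i 0 ∉ zc T := fun h0 => by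
    have h1 := comm_iff.2 (hzT _ h0 w hwT)
    rw [hwr] at h1
    exact hij (hE.single_inj h3 (mul_right_cancel h1)).symm
  have hri : rr ε i 0 * rr ε i j = rr ε j 0 := by rw [rr_mul h, rr_symm hE]
  have hrj : rr ε i 0 * rr ε j 0 = rr ε i j := by
    rw [← hri, ← mul_assoc, hu, one_mul]
  -- `V_s`
  obtain ⟨Vs, hVs⟩ : ∃ Vs : Subgroup G, Vs = dbl (zc T) (rr ε i 0) hu hc := ⟨_, rfl⟩
  have hmem : ∀ {x : G}, x ∈ Vs ↔ x ∈ zc T ∨ x * rr ε i 0 ∈ zc T := fun {x} => by rw [hVs]; exact mem_dbl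
  have hzVs : zc T ≤ Vs := fun z hz => hmem.2 (Or.inl hz)
  have huVs : rr ε i 0 ∈ Vs := hmem.2 (Or.inr (by rw [hu]; exact one_mem _))
  have hjVs : rr ε j 0 ∈ Vs := by rw [← hri]; exact mul_mem huVs (hzVs hrz)
  -- the group `X`
  obtain ⟨X, hX⟩ : ∃ X : Subgroup G, X = T ⊔ o2 (NN ε i 0) := ⟨_, rfl⟩
  have hTX : T ≤ X := hX ▸ le_sup_left
  have key : ∀ {K : Subgroup G}, (∀ x ∈ K, ∀ z ∈ zc T, x * z * x⁻¹ ∈ Vs) → (∀ x ∈ K, x * rr ε i 0 * x⁻¹ ∈ Vs) →
      K ≤ normalizer (Vs : Set G) := by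
    intro K h1 h2
    refine le_normalizer_of fun x hx y hy => ?_
    rcases hmem.1 hy with hy | hy
    · exact h1 x hx y hy
    · have e : y = y * rr ε i 0 * rr ε i 0 := by rw [mul_assoc, hu, mul_one]
      rw [e, cm]
      exact mul_mem (h1 x hx _ hy) (h2 x hx)
  have hXn : X ≤ normalizer (Vs : Set G) := by
    rw [hX]
    refine sup_le (key (fun x hx z hz => ?_) fun x hx => ?_) (key (fun q hq z hz => ?_) fun q hq => ?_)
    · rw [comm_iff.2 (hzT z hz x hx)]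
      exact hzVs hz
    · rcases hT.line x hx with h1 | h1
      · rw [h1]; exact huVs
      · rw [h1]; exact hjVs
    · have hqr : q * rr ε i 0 * q⁻¹ = rr ε i 0 := comm_iff.2 (mem_NN.1 (o2_le _ hq))
      rcases zc_mul h hN hij hi hj hT hz with h1 | h1
      · have h2 : q * z = z * q := mem_centralizer_iff.1 h1.2 q hq
        rw [comm_iff.2 h2]
        exact hzVs hz
      · have h2 : q * (z * rr ε i j) = z * rr ε i j * q := mem_centralizer_iff.1 h1.2 q hq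
        have h3 : q * rr ε i j * q⁻¹ = rr ε i j ∨ q * rr ε i j * q⁻¹ = rr ε i j * rr ε i 0 :=
          h.conj_V hi hq (rr_V h i j)
        have hrr : rr ε i j * rr ε i j = 1 := rr_sq hE i j
        have e : z = z * rr ε i j * rr ε i j := by rw [mul_assoc, hrr, mul_one]
        rw [e, cm, comm_iff.2 h2]
        rcases h3 with h3 | h3
        · rw [h3, ← e]; exact hzVs hz
        · rw [h3, ← mul_assoc, ← e]; exact mul_mem (hzVs hz) huVs
    · rw [comm_iff.2 (mem_NN.1 (o2_le _ hq))]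
      exact huVs
  -- `Z_0`
  have hrr0 : rr ε i j ∉ Z0 T ε i := fun h0 => by
    have h1 : w0 * rr ε i j = rr ε i j * w0 := mem_centralizer_iff.1 h0.2 w0 hw0Q
    have h2 := comm_iff.2 h1
    rw [rr_conj hw0s, Equiv.swap_apply_left, Equiv.swap_apply_of_ne_of_ne hij.symm hj] at h2
    exact rr_ne h hi h2.symm
  have hcard : Nat.card (zc T) = Nat.card (zc (S : Subgroup G)) := by
    obtain ⟨g, hg⟩ := MulAction.exists_smul_eq G S S₁
    have h1 : T = cj g (S : Subgroup G) := by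
      rw [← hS₁, ← hg]
      rfl
    rw [h1]
    have h2 : zc (cj g (S : Subgroup G)) = cj g (zc (S : Subgroup G)) := zc_map_equiv (MulAut.conj g) _
    rw [h2]
    exact (Nat.card_congr ((zc (S : Subgroup G)).equivMapOfInjective _ (MulAut.conj g).injective).toEquiv).symm
  obtain ⟨e, he, he1⟩ : ∃ e ∈ Z0 T ε i, e ≠ 1 := by
    by_contra h0
    push Not at h0
    have h1 : ∀ z ∈ zc T, z = 1 ∨ z = rr ε i j := by
      intro z hz
      rcases zc_mul h hN hij hi hj hT hz with h1 | h1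
      · exact Or.inl (h0 z h1)
      · right
        have h2 := h0 _ h1
        rw [mul_eq_one_iff_eq_inv] at h2
        rw [h2]
        exact inv_eq_of_mul_eq_one_left (rr_sq hE i j)
    have h2 : Nat.card (zc T) ≤ 2 := by
      have h3 : (zc T : Set G) ⊆ {1, rr ε i j} := fun z hz => h1 z hz
      have h4 : Nat.card (zc T) = (zc T : Set G).ncard := rfl
      rw [h4]
      exact (Set.ncard_le_ncard h3 (Set.toFinite _)).trans (Set.ncard_insert_le _ _ |>.trans (by simp))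
    have h3 := h.split.card_zc h.c2 h.par (by have := h.m2; omega)
    have h4 : 1 < Nat.card (cv (S : Subgroup G) P) := Subgroup.one_lt_card_iff_ne_bot _ |>.2 hcv
    omega
  have heX : X ≤ centralizer {e} := by
    rw [hX]
    refine sup_le (fun x hx => mem_cent.2 (comm_iff.2 (hzT e he.1 x hx))) fun q hq => mem_cent.2 (comm_iff.2 ?_)
    exact mem_centralizer_iff.1 he.2 q hq
  have hZX : X ≤ centralizer (Z0 T ε i : Set G) := by
    rw [hX]
    refine sup_le (fun x hx => mem_centralizer_iff.2 fun z hz => (hzT z hz.1 x hx).symm)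
      fun q hq => mem_centralizer_iff.2 fun z hz => (mem_centralizer_iff.1 hz.2 q hq).symm
  have hXz : ¬ X ≤ normalizer (zc T : Set G) := by
    intro h0
    have h1 : w0 ∈ X := hX ▸ (le_sup_right : o2 (NN ε i 0) ≤ T ⊔ o2 (NN ε i 0)) hw0Q
    have h2 := (mem_normalizer_iff.1 (h0 h1) _).1 hrz
    rw [rr_conj hw0s, Equiv.swap_apply_left, Equiv.swap_apply_of_ne_of_ne hij.symm hj] at h2
    have h3 : w * rr ε 0 j * w⁻¹ = rr ε 0 i := by
      rw [rr_conj hws, Equiv.swap_apply_right, Equiv.swap_apply_of_ne_of_ne hi.symm hj.symm]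
    have h4 := comm_iff.2 (hzT _ h2 w hwT)
    rw [h3] at h4
    exact hij (hE.single_inj h.three (mul_left_cancel h4))
  -- `R`
  have he2 : e ^ 2 = 1 := (mem_zc.1 he.1).2.2
  have hTe : T ≤ centralizer {e} := hTX.trans heX
  have hloc : IsLoc T X := by
    have h1 := MinPar.isLoc_centralizer S₁ he2 he1 (by rw [hS₁]; exact hTe)
    rw [hS₁] at h1
    have h2 := h1
    rw [← hS₁] at h2
    have h3 := h2.of_le S₁ (by rw [hS₁]; exact hTX) heX
    rwa [hS₁] at h3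
  obtain ⟨R, hR, hRX, hRn⟩ : ∃ R, IsPar T R ∧ R ≤ X ∧ ¬ R ≤ normalizer (zc T : Set G) := by
    have h1 := hloc
    rw [← hS₁] at h1 hXz ⊢
    exact h1.exists_not_le (M := normalizer (zc (S₁ : Subgroup G) : Set G)) S₁
      (inf_le_right.trans (normalizer_le_normalizer_zc _)) hXz
  have hRS : IsParS T R := ⟨hR, hRn⟩
  have hzl : zl T R = Vs := by
    rw [hVs]
    refine dbl_eq_of_lt (zc_le_zl _ _) (by rw [← hVs]; exact zl_le hzVs (hRX.trans hXn)) fun h2 => hRn ?_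
    rw [← h2]
    exact le_normalizer_zl _ _
  refine ⟨R, hRS, ?_, fun h2 => he1 ?_, ?_, ?_⟩
  · rw [hzl, hVs]
    exact card_dbl hr0
  · have h3 : e ∈ cv T R := by
      refine mem_inf.2 ⟨zc_le_zl _ _ he.1, ?_⟩
      have h4 : MinSimple.VModule.oddGen R ≤ centralizer {e} := (MinSimple.VModule.oddGen_le R).trans (hRX.trans heX)
      exact mem_centralizer_iff.2 fun x hx => comm_iff.1 (mem_cent.1 (h4 hx))
    rw [h2] at h3
    exact mem_bot.1 h3
  · rw [hzl]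
    intro x hx
    rcases hmem.1 hx with hx | hx
    · exact hV hx
    · have e1 : x = x * rr ε i 0 * rr ε i 0 := by rw [mul_assoc, hu, mul_one]
      rw [e1]
      exact mul_mem (hV hx) (rr_V h i 0)
  · rw [hzl]
    exact huVs

/-- **(END-C)** the member over `S` -/
theorem exists_exG (hcv : cv (S : Subgroup G) P ≠ ⊥) (hij : i ≠ j) (hi : i ≠ 0) (hj : j ≠ 0)
    (hT : TOne (S : Subgroup G) ε i j T) (hc : ∃ T₀ : Sylow 2 G, (T₀ : Subgroup G) ≤ centralizer {rr ε i j}) :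
    ∃ R k, ExG S P (rr ε i j) (rr ε i 0) R k := by
  have hTi : ¬ 2 ∣ T.index := by
    obtain ⟨T₀, hT₀⟩ := hc
    have h1 : T.relIndex (NN ε i j) * (NN ε i j).index = T.index := relIndex_mul_index hT.le
    rw [← h1]
    intro h2
    rcases (Nat.prime_two.dvd_mul).1 h2 with h3 | h3
    · exact hT.odd h3
    · have h4 : (NN ε i j).index ∣ (T₀ : Subgroup G).index := index_dvd_of_le hT₀
      exact not_dvd T₀ (h3.trans h4)
  have hf : Fact (Nat.Prime 2) := ⟨Nat.prime_two⟩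
  obtain ⟨S₁, hS₁⟩ : ∃ S₁ : Sylow 2 G, (S₁ : Subgroup G) = T := ⟨hT.pg.toSylow hTi, rfl⟩
  obtain ⟨R, hR, hcard, hne, hV, hmem⟩ := exists_R h hN hcv hij hi hj hT S₁ hS₁
  obtain ⟨g, hg⟩ := MulAction.exists_smul_eq G S S₁
  have hTg : T = cj g (S : Subgroup G) := by
    rw [← hS₁, ← hg]
    rfl
  have hS : (S : Subgroup G) = cj g⁻¹ T := by
    ext x
    rw [mem_cj, hTg, mem_cj]
    have e : g⁻¹ * (g⁻¹⁻¹ * x * g⁻¹) * g = x := by group
    rw [e]
  have hzl : zl (S : Subgroup G) (cj g⁻¹ R) = cj g⁻¹ (zl T R) := by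
    rw [hS]; exact HOne.NSMain.zl_cj _ _ _
  have hzc : zc (S : Subgroup G) = cj g⁻¹ (zc T) := by
    rw [hS]; exact zc_map_equiv (MulAut.conj g⁻¹) _
  have hcard' : ∀ K : Subgroup G, Nat.card (cj g⁻¹ K) = Nat.card K := fun K =>
    (Nat.card_congr (K.equivMapOfInjective _ (MulAut.conj g⁻¹).injective).toEquiv).symm
  refine ⟨cj g⁻¹ R, g, ?_, ?_, ?_, ?_, ?_, ?_, ?_, h.V_le hij, rr_V h i 0⟩
  · rw [hS]; exact HOne.NSMain.isParS_cj hR _
  · rw [hzl, hzc, hcard', hcard', hcard]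
  · have h1 : cv (S : Subgroup G) (cj g⁻¹ R) = cj g⁻¹ (cv T R) := by
      rw [hS]; exact HOne.NSMain.cv_cj _ _ _
    rw [h1]
    intro h2
    exact hne ((map_eq_bot_iff_of_injective _ (MulAut.conj g⁻¹).injective).1 h2)
  · intro x hx
    rw [hzl, mem_cj] at hx
    have e : g⁻¹⁻¹ * x * g⁻¹ = g * x * g⁻¹ := by group
    rw [e] at hx
    exact h.V_le hij (hV hx)
  · intro q hq
    have h1 := Q_le_T h hT hq
    rw [hTg, mem_cj] at h1
    exact h1
  · rw [hzl, mem_cj]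
    have e : g⁻¹⁻¹ * (g⁻¹ * rr ε i 0 * g) * g⁻¹ = rr ε i 0 := by group
    rw [e]
    exact hmem
  · exact fun x hx => cen_or h hij hi hj hx

end main

/-! ### Mutual pairs -/

/-- `Cen.Ex` is `ExG` -/
theorem ExG.of_ex [Finite G] {S : Sylow 2 G} {P R : Subgroup G} {p : Fin 5 → G} {k : G} (E : Cen.Ex S P p R k) :
    ExG S P (NTwo.nn p) (p 0 * p 4) R k :=
  ⟨E.star, E.card, E.ne, E.VQ, E.QS, E.c_mem, E.cen, E.V_Q, E.c_V⟩

namespace ExG

variable [Finite G] {S : Sylow 2 G} {P R : Subgroup G} {n c k : G} (E : ExG S P n c R k)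
include E

/-- `V_R^k` and a subgroup `W ≤ O₂(C(n))` normalised by `O₂(C(n))` -/
theorem conj_norm {W : Subgroup G} {x : G}
    (hW : MulAut.conj x • W ≤ o2 (centralizer {n})) (hn : ∀ q ∈ o2 (centralizer {n}), x⁻¹ * q * x ∈ normalizer (W : Set G)) :
    zl (S : Subgroup G) R ≤ normalizer ((MulAut.conj (k⁻¹ * x) • W : Subgroup G) : Set G) ∧
      MulAut.conj (k⁻¹ * x) • W ≤ normalizer (zl (S : Subgroup G) R : Set G) := by
  have hkR : ∀ q ∈ o2 (centralizer {n}), k⁻¹ * q * k ∈ normalizer (zl (S : Subgroup G) R : Set G) := fun q hq =>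
    le_normalizer_zl _ _ (E.star.le (E.QS q hq))
  refine ⟨le_normalizer_of fun y hy z hz => ?_, fun z hz => ?_⟩
  · rw [mem_csmul] at hz ⊢
    have h1 := hn _ (E.VQ y hy)
    have h2 := (mem_normalizer_iff.1 h1 _).1 hz
    have h3 : (k⁻¹ * x)⁻¹ * (y * z * y⁻¹) * (k⁻¹ * x) =
        x⁻¹ * (k * y * k⁻¹) * x * ((k⁻¹ * x)⁻¹ * z * (k⁻¹ * x)) * (x⁻¹ * (k * y * k⁻¹) * x)⁻¹ := by group
    rwa [h3]
  · rw [mem_csmul] at hz
    have h1 : k * z * k⁻¹ ∈ o2 (centralizer {n}) := by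
      apply hW
      rw [mem_csmul]
      have h2 : x⁻¹ * (k * z * k⁻¹) * x = (k⁻¹ * x)⁻¹ * z * (k⁻¹ * x) := by group
      rwa [h2]
    have h2 := hkR _ h1
    have h3 : k⁻¹ * (k * z * k⁻¹) * k = z := by group
    rwa [h3] at h2

/-- natural partner -/
theorem nat {P₂ : Subgroup G} {y : G} (hP₂ : IsParS (S : Subgroup G) P₂)
    (hV : MulAut.conj y • zl (S : Subgroup G) P₂ ≤ o2 (centralizer {n}))
    (hn : y⁻¹ * n * y ∈ zc (S : Subgroup G))
    (hne : ⁅zl (S : Subgroup G) P, MulAut.conj y • zl (S : Subgroup G) P₂⁆ ≠ ⊥) :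
    Mutual (S : Subgroup G) R P₂ (k⁻¹ * y) := by
  obtain ⟨-, hn2, -⟩ := mem_zc.1 hn
  have hSn : (S : Subgroup G) ≤ centralizer {y⁻¹ * n * y} := fun x hx => mem_cent.2 (comm_iff.2 (hn2 x hx))
  have hyn : y * (y⁻¹ * n * y) * y⁻¹ = n := by group
  have h1 : ∀ q ∈ o2 (centralizer {n}), y⁻¹ * q * y ∈ (S : Subgroup G) := fun q hq =>
    o2_le_of_sylow S.isPGroup' (MinSimple.Basic.not_dvd_relIndex S hSn) (o2_cent_conj' hyn hq)
  obtain ⟨h2, h3⟩ := E.conj_norm hV fun q hq => le_normalizer_zl _ _ (hP₂.le (h1 q hq))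
  refine ⟨E.star, hP₂, h2, h3, fun h4 => hne ?_⟩
  rw [commutator_eq_bot_iff_le_centralizer] at h4 ⊢
  -- `c` commutes with `V'`
  have hc : ∀ z ∈ MulAut.conj y • zl (S : Subgroup G) P₂, z * c = c * z := by
    intro z hz
    have h5 : k⁻¹ * z * k ∈ MulAut.conj (k⁻¹ * y) • zl (S : Subgroup G) P₂ := by
      rw [mem_csmul] at hz ⊢
      have h6 : (k⁻¹ * y)⁻¹ * (k⁻¹ * z * k) * (k⁻¹ * y) = y⁻¹ * z * y := by group
      rwa [h6]
    have h6 := mem_centralizer_iff.1 (h4 E.c_mem) _ h5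
    calc z * c = k * (k⁻¹ * z * k * (k⁻¹ * c * k)) * k⁻¹ := by group
      _ = k * (k⁻¹ * c * k * (k⁻¹ * z * k)) * k⁻¹ := by rw [h6]
      _ = c * z := by group
  intro x hx
  refine mem_centralizer_iff.2 fun z hz => ?_
  rcases E.cen x hx with h5 | h5
  · exact h5 z (hV hz)
  · have h6 := h5 z (hV hz)
    have h7 := hc z hz
    have h8 : z * x * c = x * z * c := by
      calc z * x * c = z * (x * c) := by group
        _ = x * (c * z) := by rw [h6]; group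
        _ = x * z * c := by rw [← h7]; group
    exact mul_right_cancel h8

theorem nonFree_nat {P₂ : Subgroup G} {y : G} (hP₂ : IsParS (S : Subgroup G) P₂)
    (hV : MulAut.conj y • zl (S : Subgroup G) P₂ ≤ o2 (centralizer {n}))
    (hn : y⁻¹ * n * y ∈ zc (S : Subgroup G))
    (hne : ⁅zl (S : Subgroup G) P, MulAut.conj y • zl (S : Subgroup G) P₂⁆ ≠ ⊥)
    (hcv : cv (S : Subgroup G) P₂ ≠ ⊥) :
    NonFree (S : Subgroup G) R P₂ (k⁻¹ * y) := ⟨E.nat hP₂ hV hn hne, E.ne, hcv⟩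

/-- T-partner -/
theorem tt {P₂ R₂ : Subgroup G} {n₂ c₂ k₂ y : G} (E₂ : ExG S P₂ n₂ c₂ R₂ k₂)
    (hy : y * n₂ * y⁻¹ = n)
    (hne : ⁅zl (S : Subgroup G) P, MulAut.conj y • zl (S : Subgroup G) P₂⁆ ≠ ⊥) :
    Mutual (S : Subgroup G) R R₂ (k⁻¹ * y * k₂) := by
  have hQ : ∀ q ∈ o2 (centralizer {n₂}), y * q * y⁻¹ ∈ o2 (centralizer {n}) := fun q hq => o2_cent_conj hy hq
  have hQ' : ∀ q ∈ o2 (centralizer {n}), y⁻¹ * q * y ∈ o2 (centralizer {n₂}) := fun q hq => o2_cent_conj' hy hq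
  have h0 : MulAut.conj (y * k₂) • zl (S : Subgroup G) R₂ ≤ o2 (centralizer {n}) := by
    intro z hz
    rw [mem_csmul] at hz
    have h1 := hQ _ (E₂.VQ _ hz)
    have h2 : y * (k₂ * ((y * k₂)⁻¹ * z * (y * k₂)) * k₂⁻¹) * y⁻¹ = z := by group
    rwa [h2] at h1
  obtain ⟨h2, h3⟩ := E.conj_norm (x := y * k₂) h0 fun q hq => by
    have h4 := le_normalizer_zl (S : Subgroup G) R₂ (E₂.star.le (E₂.QS _ (hQ' q hq)))
    have h5 : k₂⁻¹ * (y⁻¹ * q * y) * k₂ = (y * k₂)⁻¹ * q * (y * k₂) := by group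
    rwa [h5] at h4
  rw [← mul_assoc] at h2 h3
  refine ⟨E.star, E₂.star, h2, h3, fun h4 => hne ?_⟩
  rw [commutator_eq_bot_iff_le_centralizer] at h4 ⊢
  -- `c` and `c'` commute
  have hcc : y * c₂ * y⁻¹ * c = c * (y * c₂ * y⁻¹) := by
    have h5 : k⁻¹ * (y * c₂ * y⁻¹) * k ∈ MulAut.conj (k⁻¹ * y * k₂) • zl (S : Subgroup G) R₂ := by
      rw [mem_csmul]
      have h6 : (k⁻¹ * y * k₂)⁻¹ * (k⁻¹ * (y * c₂ * y⁻¹) * k) * (k⁻¹ * y * k₂) =
        k₂⁻¹ * c₂ * k₂ := by group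
      rw [h6]
      exact E₂.c_mem
    have h6 := mem_centralizer_iff.1 (h4 E.c_mem) _ h5
    generalize y * c₂ * y⁻¹ = c' at h6 ⊢
    calc c' * c = k * (k⁻¹ * c' * k * (k⁻¹ * c * k)) * k⁻¹ := by group
      _ = k * (k⁻¹ * c * k * (k⁻¹ * c' * k)) * k⁻¹ := by rw [h6]
      _ = c * c' := by group
  intro x hx
  refine mem_centralizer_iff.2 fun z hz => ?_
  replace hz : z ∈ MulAut.conj y • zl (S : Subgroup G) P₂ := hz
  rw [mem_csmul] at hz
  obtain ⟨x', hx', hzx⟩ : ∃ x' ∈ zl (S : Subgroup G) P₂, z = y * x' * y⁻¹ := ⟨_, hz, by group⟩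
  have hzQ : z ∈ o2 (centralizer {n}) := by rw [hzx]; exact hQ _ (E₂.V_Q hx')
  have hxQ : x ∈ o2 (centralizer {n}) := E.V_Q hx
  have hcQ : c ∈ o2 (centralizer {n}) := E.V_Q E.c_V
  have hcQ' : y * c₂ * y⁻¹ ∈ o2 (centralizer {n}) := hQ _ (E₂.V_Q E₂.c_V)
  -- the centraliser statement for `V'`
  have hcen : (∀ q ∈ o2 (centralizer {n}), q * z = z * q) ∨
      ∀ q ∈ o2 (centralizer {n}), q * (z * (y * c₂ * y⁻¹)) = z * (y * c₂ * y⁻¹) * q := by
    have key : ∀ x' q : G, (y⁻¹ * q * y) * x' = x' * (y⁻¹ * q * y) → q * (y * x' * y⁻¹) = y * x' * y⁻¹ * q := by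
      intro x' q h5
      calc q * (y * x' * y⁻¹) = y * ((y⁻¹ * q * y) * x') * y⁻¹ := by group
        _ = y * (x' * (y⁻¹ * q * y)) * y⁻¹ := by rw [h5]
        _ = y * x' * y⁻¹ * q := by group
    rcases E₂.cen x' hx' with h5 | h5
    · left
      intro q hq
      rw [hzx]
      exact key _ _ (h5 _ (hQ' q hq))
    · right
      intro q hq
      rw [hzx, ← cm]
      exact key _ _ (h5 _ (hQ' q hq))
  revert hcc hcQ' hcen
  generalize y * c₂ * y⁻¹ = c'
  have hcx := E.cen x hx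
  revert hcQ hcx
  intro hcQ hcx hcc hcQ' hcen
  rcases hcx with h5 | h5
  · exact h5 z hzQ
  rcases hcen with h6 | h6
  · exact (h6 x hxQ).symm
  -- `z` commutes with `c`
  have h7 : c * z = z * c := by
    have h8 := h6 c hcQ
    have h9 : c * z * c' = z * c * c' := by
      calc c * z * c' = c * (z * c') := by group
        _ = z * (c' * c) := by rw [h8]; group
        _ = z * c * c' := by rw [hcc]; group
    exact mul_right_cancel h9
  have h8 := h5 z hzQ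
  have h9 : z * x * c = x * z * c := by
    calc z * x * c = z * (x * c) := by group
      _ = x * (c * z) := by rw [h8]; group
      _ = x * z * c := by rw [h7]; group
  exact mul_right_cancel h9

theorem nonFree_tt {P₂ R₂ : Subgroup G} {n₂ c₂ k₂ y : G} (E₂ : ExG S P₂ n₂ c₂ R₂ k₂)
    (hy : y * n₂ * y⁻¹ = n)
    (hne : ⁅zl (S : Subgroup G) P, MulAut.conj y • zl (S : Subgroup G) P₂⁆ ≠ ⊥) :
    NonFree (S : Subgroup G) R R₂ (k⁻¹ * y * k₂) := ⟨E.tt E₂ hy hne, E.ne, E₂.ne⟩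

end ExG

end Cfsg.Agent.Omega.F4Leaf.Syl.EndC

end

section


/-!
# LeafF4, piece E: `n = r_ij` is 2-central (helper778)

* `HasT` : piece A (helper758, helper628): a Sylow 2-subgroup `T₁ ≥ C_S(r_ij)` of `C_G(r_ij)` normalising the line;
* `exists_two` : `ExG` for `m = 2` (from `Cen.Out`), `exists_big` : `ExG` for `m ≥ 3` from `HasT`;
* `endTT : HasT → Main.EndTT`, `endNat : HasT → Main.EndNat`.
-/

set_option autoImplicit false
set_option linter.dupNamespace false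
set_option linter.unusedSectionVars false

namespace Cfsg.Agent.Omega.F4Leaf.Syl.EndCMain

open Subgroup Pointwise Cfsg Cfsg.Agent Cfsg.Agent.Omega.MinPar
open Cfsg.Agent.ZN (o2 zc zl)
open Cfsg.Agent.ZN.ChoiceBase (cj mem_cj)
open Cfsg.Agent.Omega.Frame Cfsg.Agent.Omega.FFThm
open Cfsg.Agent.Omega.FrameLE (AllIn)
open Cfsg.Agent.Omega.FrameFF (cv Single Free)
open Cfsg.Agent.Omega.FrameMulti (IsSym IsNat Typed AllTyped)
open Cfsg.Agent.Omega.HOne.Main (NonFree)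
open Cfsg.Agent.Omega.S5.Def Cfsg.Agent.Omega.S5.Syl Cfsg.Agent.Omega.S5.Pair Cfsg.Agent.Omega.S5.Main
open Cfsg.Agent.Omega.S5.SymBig (H2 pos_symm rr_cj NN_cj)
open Cfsg.Agent.Omega.F4Leaf.Def Cfsg.Agent.Omega.F4Leaf.Main Cfsg.Agent.Omega.F4Leaf.Two
open Cfsg.Agent.Omega.F4Leaf.Pos Cfsg.Agent.Omega.F4Leaf.Facts
open Cfsg.Agent.Omega.NSix.Base Cfsg.Agent.Omega.NSix.Basic
open Cfsg.Agent.Omega.NSix.Zero (WP mem_WP WP_norm WP_conj zpow_cases)
open Cfsg.Agent.Omega.F4Leaf.Cen.Main (PosExit)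
open Cfsg.Agent.Omega.NTwo (nn cm cc ci comm_iff mem_cent mem_smul o2_cent_conj o2_cent_conj' mem_csmul csmul_mem)
open Cfsg.Agent.Omega.F4Leaf.Syl.Main (TwoCen EndTT EndNat)
open Cfsg.Agent.Omega.F4Leaf.Syl.EndC
open Cfsg.Agent.MinSimple.VModule (o2_isPGroup o2_le le_o2 le_normalizer_o2 o2_le_of_sylow mem_zc zc_le
  le_normalizer_zl zl_comm zl_sq zc_le_zl zl_le normalizer_le_normalizer_zc)

universe u

/-- **Piece A** (`m ≥ 3`). -/
def HasT : Prop :=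
  ∀ (G : Type u) [Group G] [Finite G] (S : Sylow 2 G) (P : Subgroup G) (m : ℕ) (A : Subgroup G)
    (ε : (Fin (2 ^ m + 1) → ZMod 2) → G), Pos.Sit S P m A ε → 3 ≤ m → cv (S : Subgroup G) P ≠ ⊥ →
    ∀ i j : Fin (2 ^ m + 1), i ≠ j → (∃ s ∈ (S : Subgroup G), Acts ε s (Equiv.swap i j)) →
      (∃ w ∈ WP ε i j, Acts ε w (Equiv.swap i j)) → ∃ T, TOne (S : Subgroup G) ε i j T

section one

variable {G : Type u} [Group G] [Finite G] {S : Sylow 2 G} {P : Subgroup G}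

/-- `m = 2` -/
theorem exists_two {A : Subgroup G} {ε : (Fin (2 ^ 2 + 1) → ZMod 2) → G} (h : Sit S P 2 A ε)
    {i j : Fin (2 ^ 2 + 1)} (hij : i ≠ j) (hs : ∃ s ∈ (S : Subgroup G), Acts ε s (Equiv.swap i j))
    (hw : ∃ w ∈ WP ε i j, Acts ε w (Equiv.swap i j)) (hc : TwoCen (rr ε i j)) :
    ∃ c R k, ExG S P (rr ε i j) c R k := by
  obtain ⟨b, hb, hbs⟩ := hs
  obtain ⟨w, hw, hws⟩ := hw
  obtain ⟨ρ, hρ0, hρ1, sv⟩ := Cen.Std.exists_sv h.c2 S h.split h.par hij hb hbs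
  obtain ⟨p, hp⟩ : ∃ p : Fin 5 → G, p = fun k => ε (Pi.single (M := fun _ : Fin (2 ^ 2 + 1) => ZMod 2) (ρ k) 1) :=
    ⟨_, rfl⟩
  rw [← hp] at sv
  have hp0 : p 0 = ε (Pi.single i 1) := by rw [hp, ← hρ0]
  have hp1 : p 1 = ε (Pi.single j 1) := by rw [hp, ← hρ1]
  have hn : nn p = rr ε i j := by rw [nn, hp0, hp1]; rfl
  have e0 := hws.single i
  have e1 := hws.single j
  rw [Equiv.swap_apply_left, ← hp0, ← hp1] at e0
  rw [Equiv.swap_apply_right, ← hp0, ← hp1] at e1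
  have hN : Cen.NCen p := by
    rw [← hn] at hc
    exact hc
  have hrr : rr ε i j * rr ε i j = 1 := rr_sq h.split.even i j
  have E : Cen.V.El p w := by
    refine Cen.Entry.el_of h.c2 sv e0 e1 fun q hq => ?_
    rw [hn] at hq ⊢
    have h1 := (mem_WP.1 hw).2 q hq
    have h3 : q * rr ε i j = rr ε i j * q := mem_NN.1 (o2_le _ hq)
    rcases zpow_cases hrr h1 with h2 | h2
    · left
      have h4 : w * q = q * w := by
        calc w * q = w * q * w⁻¹ * q⁻¹ * (q * w) := by group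
          _ = q * w := by rw [h2, one_mul]
      rw [← h4, mul_inv_cancel_right]
    · right
      have h4 : w * q = rr ε i j * (q * w) := by
        calc w * q = w * q * w⁻¹ * q⁻¹ * (q * w) := by group
          _ = rr ε i j * (q * w) := by rw [h2]
      have h5 : q * w = rr ε i j * (w * q) := by rw [h4, ← mul_assoc, hrr, one_mul]
      rw [h5, ← mul_assoc, mul_inv_cancel_right]
  obtain ⟨r, v, w', o⟩ := Cen.V.exists_out h.c2 S sv hN E
  obtain ⟨R, k, E'⟩ := o.exists_ex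
  have := ExG.of_ex E'
  rw [hn] at this
  exact ⟨_, R, k, this⟩

/-- any `m ≥ 2` -/
theorem exists_ex (hA : HasT.{u}) {m : ℕ} {A : Subgroup G} {ε : (Fin (2 ^ m + 1) → ZMod 2) → G}
    (h : Sit S P m A ε) (hcv : cv (S : Subgroup G) P ≠ ⊥)
    {i j : Fin (2 ^ m + 1)} (hij : i ≠ j) (hs : ∃ s ∈ (S : Subgroup G), Acts ε s (Equiv.swap i j))
    (hw : ∃ w ∈ WP ε i j, Acts ε w (Equiv.swap i j)) (hc : TwoCen (rr ε i j)) :
    ∃ c R k, ExG S P (rr ε i j) c R k := by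
  by_cases h3 : 3 ≤ m
  · obtain ⟨T, hT⟩ := hA G S P m A ε h h3 hcv i j hij hs hw
    have h0 : ∀ k, Equiv.swap i j k ≠ k → k ≠ 0 := by
      rintro k hk rfl
      obtain ⟨s, hs1, hs2⟩ := hs
      exact hk (h.split.fix0 s hs1 _ hs2)
    have hi : i ≠ 0 := h0 i (by rw [Equiv.swap_apply_left]; exact hij.symm)
    have hj : j ≠ 0 := h0 j (by rw [Equiv.swap_apply_right]; exact hij)
    have hN : ∃ i j, i ≠ j ∧ ∃ g ∈ WP ε i j, ¬ g ∈ centralizer (A : Set G) := by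
      obtain ⟨w, hw1, hw2⟩ := hw
      refine ⟨i, j, hij, w, hw1, fun h1 => hij ?_⟩
      have h2 := h.split.even.acts_one_iff.2 h1
      have h3 := hw2.single i
      have h4 := h2.single i
      rw [Equiv.swap_apply_left] at h3
      rw [h3] at h4
      exact (h.split.even.single_inj h.three h4).symm
    obtain ⟨R, k, E⟩ := exists_exG h hN hcv hij hi hj hT hc
    exact ⟨_, R, k, E⟩
  · obtain rfl : m = 2 := by have := h.m2; omega
    exact exists_two h hij hs hw hc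

end one

/-- **Piece E, T-T** -/
theorem endTT (hA : HasT.{u}) : EndTT.{u} := by
  intro G _ _ hG S hT P₁ P₂ y m m' A ε A₂ ε₂ hm hm' hbig hl hc₁ hc₂ hall
  have hc := hG.char2
  obtain ⟨i, j, k, l, hij, hkl, hr, ⟨b, hb, hb1⟩, -, ⟨a, ha, ha1⟩, -⟩ := exists_common hc hl hm hm'
  have s₁ : Pos.Sit S P₁ m A ε := ⟨hc, hl.pair.star₁, hm, hl.split⟩
  have s₂ : Pos.Sit S P₂ m' A₂ ε₂ := ⟨hc, hl.pair.star₂, hm', hl.split₂⟩
  have hw := wp_eq hr
  have hbS : b ∈ (S : Subgroup G) := hl.le (map_mono hl.split₂.A_le hb)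
  have hbW : b ∈ WP ε i j := by
    rw [hw]
    exact (s₂.fac.conj y).mem_wp hkl hb
  have haS : y⁻¹ * a * y ∈ (S : Subgroup G) := mem_cj.mp (hl.ge (hl.split.A_le ha))
  have haW : y⁻¹ * a * y ∈ WP ε₂ k l := by
    refine Main.wp_cj ?_
    rw [← hw]
    exact s₁.fac.mem_wp hij ha
  have ha2 : Acts ε₂ (y⁻¹ * a * y) (Equiv.swap k l) := by
    rw [← acts_conj_label_iff y]
    have e : y * (y⁻¹ * a * y) * y⁻¹ = a := by group
    rwa [e]
  have hn₂ : y * rr ε₂ k l * y⁻¹ = rr ε i j := by rw [hr, rr_cj]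
  have hc2 : TwoCen (rr ε₂ k l) := by
    have h1 := (hall i j).conj y⁻¹
    have e : y⁻¹ * rr ε i j * y⁻¹⁻¹ = rr ε₂ k l := by rw [← hn₂]; group
    rwa [e] at h1
  obtain ⟨c, R, g, E⟩ := exists_ex hA s₁ hc₁ hij ⟨b, hbS, hb1⟩ ⟨b, hbW, hb1⟩ (hall i j)
  obtain ⟨c₂, R₂, g₂, E₂⟩ := exists_ex hA s₂ hc₂ hkl ⟨_, haS, ha2⟩ ⟨_, haW, ha2⟩ hc2
  have hne : ⁅zl (S : Subgroup G) P₁, MulAut.conj y • zl (S : Subgroup G) P₂⁆ ≠ ⊥ := by
    have h1 := hl.pair.ne
    exact h1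
  exact NoWrFree.exists_pos hG S hT (E.nonFree_tt E₂ hn₂ hne) E.card E₂.card

/-- **Piece E, natural partner** -/
theorem endNat (hA : HasT.{u}) : EndNat.{u} := by
  intro G _ _ hG S hT P₁ P₂ y m A ε hm hl hN hc₁ hc₂
  have hc := hG.char2
  have hm2 : 2 ≤ m := by omega
  obtain ⟨cz1, cz2⟩ := NatStep.natStep G hc S P₁ P₂ y m A ε hm2 hl hN
  obtain ⟨F, i1, i2, i3, ⟨M⟩⟩ := hN
  have hF := F4Leaf.NatStep.card_F hc hm2 hl M
  have hev := hl.split.even
  have hP₁ := hl.pair.star₁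
  have hP₂ := hl.pair.star₂
  have s₁ : Pos.Sit S P₁ m A ε := ⟨hc, hP₁, hm2, hl.split⟩
  obtain ⟨r, hr, hrw⟩ := Cen.Entry.nat_two hc hP₂ M hF
  obtain ⟨b, hb, i, j, hij, hbs⟩ := S5.Nat.exists_swap hev hl.side (Cen.Entry.not_le_cent hc hl)
  have e0 := hbs.single i
  rw [Equiv.swap_apply_left] at e0
  have hne1 : rr ε i j ≠ 1 := rr_ne_one hev s₁.three hij
  have hrr : rr ε i j * rr ε i j = 1 := rr_sq hev i j
  -- `S^y` acts on `V'`
  have hact : ∀ q ∈ cj y (S : Subgroup G), ∀ w ∈ cj y (zl (S : Subgroup G) P₂),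
      q * w * q⁻¹ = w ∨ q * w * q⁻¹ = (y * r * y⁻¹) * w := by
    intro q hq w hw
    rcases hrw _ (mem_cj.1 hq) _ (mem_cj.1 hw) with h1 | h1
    · left
      calc q * w * q⁻¹ = y * (y⁻¹ * q * y * (y⁻¹ * w * y) * (y⁻¹ * q * y)⁻¹) * y⁻¹ := by group
        _ = w := by rw [h1]; group
    · right
      calc q * w * q⁻¹ = y * (y⁻¹ * q * y * (y⁻¹ * w * y) * (y⁻¹ * q * y)⁻¹) * y⁻¹ := by group
        _ = (y * r * y⁻¹) * w := by rw [h1]; group
  -- `n = r^y`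
  have hnr : rr ε i j = y * r * y⁻¹ := by
    have h0 : zz ε i ∈ zl (S : Subgroup G) P₁ := hl.split.A_le (zz_mem hev i)
    have h2 : zz ε i * b * (zz ε i)⁻¹ * b⁻¹ = rr ε i j := by
      rw [show (zz ε i)⁻¹ = zz ε i from hev.inv _, rr]
      calc zz ε i * b * zz ε i * b⁻¹ = zz ε i * (b * zz ε i * b⁻¹) := by group
        _ = zz ε i * zz ε j := by rw [show b * zz ε i * b⁻¹ = zz ε j from e0]
    rcases hact _ (hl.ge h0) b hb with h1 | h1
    · rw [h1, mul_inv_cancel] at h2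
      exact absurd h2.symm hne1
    · rw [h1, mul_inv_cancel_right] at h2
      exact h2.symm
  have hSn : ∀ q ∈ cj y (S : Subgroup G), q * rr ε i j * q⁻¹ = rr ε i j := by
    intro q hq
    have h1 : (y⁻¹ * q * y) * r * (y⁻¹ * q * y)⁻¹ = r := comm_iff.2 ((mem_zc.1 hr).2.1 _ (mem_cj.1 hq))
    rw [hnr]
    calc q * (y * r * y⁻¹) * q⁻¹ = y * ((y⁻¹ * q * y) * r * (y⁻¹ * q * y)⁻¹) * y⁻¹ := by group
      _ = y * r * y⁻¹ := by rw [h1]
  have hSn' : ((y • S : Sylow 2 G) : Subgroup G) ≤ centralizer {rr ε i j} := by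
    intro x hx
    rw [mem_smul] at hx
    exact mem_cent.2 (hSn x (mem_cj.2 hx))
  have hcen : TwoCen (rr ε i j) := ⟨y • S, hSn'⟩
  have hQS : ∀ q ∈ o2 (centralizer ({rr ε i j} : Set G)), q ∈ cj y (S : Subgroup G) := by
    intro q hq
    have h2 := o2_le_of_sylow (y • S : Sylow 2 G).isPGroup'
      (MinSimple.Basic.not_dvd_relIndex (y • S : Sylow 2 G) hSn') hq
    rw [mem_cj]
    exact mem_smul.1 h2
  have hQW : ∀ q ∈ o2 (centralizer ({rr ε i j} : Set G)), ∀ w ∈ cj y (zl (S : Subgroup G) P₂),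
      q * w * q⁻¹ = w ∨ q * w * q⁻¹ = rr ε i j * w := by
    intro q hq w hw
    rw [hnr]
    exact hact q (hQS q hq) w hw
  have hWQ : cj y (zl (S : Subgroup G) P₂) ≤ o2 (centralizer ({rr ε i j} : Set G)) := by
    intro w hw
    have hwS : w ∈ cj y (S : Subgroup G) := by
      rw [mem_cj] at hw ⊢
      exact ((hP₂.isLoc.zl_le S hc).trans (zc_le _)).trans (hP₂.isLoc.o2_le S) hw
    refine S5.Mod.le_o2_of_comm hc (by rw [sq]; exact hrr) hne1 (comm_iff.1 (hSn w hwS)) fun q hq => ?_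
    rcases hQW q hq w hw with h1 | h1
    · left
      rw [comm_iff] at h1
      calc w * q * w⁻¹ * q⁻¹ = (q * w) * w⁻¹ * q⁻¹ := by rw [h1]
        _ = 1 := by group
    · right
      have h2 : q * w = rr ε i j * w * q := by rw [← h1]; group
      calc w * q * w⁻¹ * q⁻¹ = rr ε i j * rr ε i j * w * q * w⁻¹ * q⁻¹ := by rw [hrr, one_mul]
        _ = rr ε i j * (rr ε i j * w * q) * w⁻¹ * q⁻¹ := by group
        _ = rr ε i j * (q * w) * w⁻¹ * q⁻¹ := by rw [h2]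
        _ = rr ε i j := by group
  have hbQ := hWQ hb
  have hbW : b ∈ WP ε i j := by
    refine mem_WP.2 ⟨o2_le _ hbQ, fun q hq => ?_⟩
    rcases hQW q hq b hb with h1 | h1
    · have h2 : b * q * b⁻¹ * q⁻¹ = 1 := by
        rw [comm_iff] at h1
        calc b * q * b⁻¹ * q⁻¹ = (q * b) * b⁻¹ * q⁻¹ := by rw [h1]
          _ = 1 := by group
      rw [h2]
      exact one_mem _
    · have h2 : q * b = rr ε i j * b * q := by rw [← h1]; group
      have h3 : b * q * b⁻¹ * q⁻¹ = rr ε i j := by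
        calc b * q * b⁻¹ * q⁻¹ = rr ε i j * rr ε i j * b * q * b⁻¹ * q⁻¹ := by rw [hrr, one_mul]
          _ = rr ε i j * (rr ε i j * b * q) * b⁻¹ * q⁻¹ := by group
          _ = rr ε i j * (q * b) * b⁻¹ * q⁻¹ := by rw [h2]
          _ = rr ε i j := by group
      rw [h3]
      exact mem_zpowers _
  obtain ⟨c, R, k, E⟩ := exists_ex hA s₁ hc₁ hij ⟨b, hl.le hb, hbs⟩ ⟨b, hbW, hbs⟩ hcen
  have hne : ⁅zl (S : Subgroup G) P₁, MulAut.conj y • zl (S : Subgroup G) P₂⁆ ≠ ⊥ := hl.pair.ne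
  have hnz : y⁻¹ * rr ε i j * y ∈ zc (S : Subgroup G) := by
    have e : y⁻¹ * rr ε i j * y = r := by rw [hnr]; group
    rw [e]
    exact hr
  exact NoWrFree.exists_pos hG S hT (E.nonFree_nat hP₂ hWQ hnz hne hc₂) E.card (by omega)

end Cfsg.Agent.Omega.F4Leaf.Syl.EndCMain

end

section


/-!
# LeafF4, piece E, complete (helper778): `EndTT`, `EndNat` of `Syl/Main.lean`

* `exists_tone` : a moved line and `m ≥ 3` give `TOne` (pieces A: helper758, helper628);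
* `pos_of_moved` : a moved line, `n` 2-central: the position `HTwo.Entry.Pos` (pair `(R, R^h)`), any `m ≥ 2`;
* `endTT : Main.EndTT`, `endNat : Main.EndNat` (from `Mix.nonab`, `MixS.mix_sym`, helper300, helper994).
-/

set_option autoImplicit false
set_option linter.dupNamespace false
set_option linter.unusedSectionVars false

namespace Cfsg.Agent.Omega.F4Leaf.Syl.EndCPure

open Subgroup Pointwise Cfsg Cfsg.Agent Cfsg.Agent.Omega.MinPar
open Cfsg.Agent.ZN (o2 zc zl)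
open Cfsg.Agent.ZN.ChoiceBase (cj mem_cj)
open Cfsg.Agent.Omega.Frame Cfsg.Agent.Omega.FFThm
open Cfsg.Agent.Omega.FrameLE (AllIn)
open Cfsg.Agent.Omega.FrameFF (cv Single Free)
open Cfsg.Agent.Omega.FrameMulti (IsSym IsNat Typed AllTyped)
open Cfsg.Agent.Omega.HOne.Main (NonFree)
open Cfsg.Agent.Omega.S5.Def Cfsg.Agent.Omega.S5.Syl Cfsg.Agent.Omega.S5.Pair Cfsg.Agent.Omega.S5.Main
open Cfsg.Agent.Omega.S5.SymBig (H2 pos_symm rr_cj NN_cj)
open Cfsg.Agent.Omega.F4Leaf.Def Cfsg.Agent.Omega.F4Leaf.Main Cfsg.Agent.Omega.F4Leaf.Two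
open Cfsg.Agent.Omega.F4Leaf.Pos Cfsg.Agent.Omega.F4Leaf.Facts
open Cfsg.Agent.Omega.NSix.Base Cfsg.Agent.Omega.NSix.Basic
open Cfsg.Agent.Omega.NSix.Zero (WP mem_WP WP_norm WP_conj zpow_cases)
open Cfsg.Agent.Omega.NTwo (nn cm cc ci comm_iff mem_cent mem_smul o2_cent_conj o2_cent_conj' mem_csmul csmul_mem)
open Cfsg.Agent.Omega.F4Leaf.Syl.Main (TwoCen EndTT EndNat nonAb_cj)
open Cfsg.Agent.Omega.F4Leaf.Syl.Mix (NonAb nonab)
open Cfsg.Agent.Omega.F4Leaf.Syl.EndC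
open Cfsg.Agent.Omega.HT.LineOf (ln dd)
open Cfsg.Agent.MinSimple.VModule (o2_isPGroup o2_le le_o2 le_normalizer_o2 o2_le_of_sylow mem_zc zc_le
  le_normalizer_zl zl_comm zl_sq zc_le_zl zl_le normalizer_le_normalizer_zc)

universe u

section one

variable {G : Type u} [Group G] [Finite G] {S : Sylow 2 G} {P : Subgroup G} {m : ℕ} {A : Subgroup G}
  {ε : (Fin (2 ^ m + 1) → ZMod 2) → G} (h : Sit S P m A ε) {i j : Fin (2 ^ m + 1)}
include h

theorem ne_zero_of (hij : i ≠ j) (hs : ∃ s ∈ (S : Subgroup G), Acts ε s (Equiv.swap i j)) : i ≠ 0 ∧ j ≠ 0 := by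
  have h0 : ∀ k, Equiv.swap i j k ≠ k → k ≠ 0 := by
    rintro k hk rfl
    obtain ⟨s, hs1, hs2⟩ := hs
    exact hk (h.split.fix0 s hs1 _ hs2)
  exact ⟨h0 i (by rw [Equiv.swap_apply_left]; exact hij.symm), h0 j (by rw [Equiv.swap_apply_right]; exact hij)⟩

theorem mov_of (hij : i ≠ j) (hw : ∃ w ∈ WP ε i j, Acts ε w (Equiv.swap i j)) :
    ∃ i j, i ≠ j ∧ ∃ g ∈ WP ε i j, ¬ g ∈ centralizer (A : Set G) := by
  obtain ⟨w, hw1, hw2⟩ := hw
  refine ⟨i, j, hij, w, hw1, fun h1 => hij ?_⟩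
  have h2 := h.split.even.acts_one_iff.2 h1
  have h3 := hw2.single i
  have h4 := h2.single i
  rw [Equiv.swap_apply_left] at h3
  rw [h3] at h4
  exact (h.split.even.single_inj h.three h4).symm

/-- **pieces A**, a moved line -/
theorem exists_tone (hm : 3 ≤ m) (hcv : cv (S : Subgroup G) P ≠ ⊥) (hij : i ≠ j)
    (hs : ∃ s ∈ (S : Subgroup G), Acts ε s (Equiv.swap i j)) (hw : ∃ w ∈ WP ε i j, Acts ε w (Equiv.swap i j))
    (hM : NonAb ε i j 0) : ∃ T, TOne (S : Subgroup G) ε i j T := by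
  obtain ⟨hi, hj⟩ := ne_zero_of h hij hs
  have hmov := mov_of h hij hw
  have hP : TSyl.Part A ε i j := by
    obtain ⟨k, hk, h1⟩ := hM
    exact ⟨k, hk, _, rr_mem h.split.even i 0, _, rr_mem h.split.even i 0, h1⟩
  obtain ⟨T, hT⟩ := Inst.exists_fr h hm hij hi hj hs hmov hP (LemF.lemF_duad h hmov hij hi hj hs) hcv
  refine ⟨T, hT.leN, hT.p, hT.odd, hT.le, fun t ht => ?_⟩
  have hu : rr ε i 0 ∈ ln (TSyl.line h hij hi hj) := (TSyl.line h hij hi hj).dd_mem 1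
  have h1 : t * rr ε i 0 * t⁻¹ ∈ ln (TSyl.line h hij hi hj) := (mem_normalizer_iff.1 (hT.nrm ht) _).1 hu
  have hr : t * rr ε i j * t⁻¹ = rr ε i j := mem_NN'.1 (hT.leN ht)
  rcases (TSyl.line h hij hi hj).mem_ln.1 h1 with h2 | ⟨s, h2⟩
  · exfalso
    have h3 : rr ε i 0 = 1 := by
      have e : rr ε i 0 = t⁻¹ * (t * rr ε i 0 * t⁻¹) * t := by group
      rw [e, h2]
      group
    exact rr_ne_one h.split.even h.three hi h3
  · fin_cases s
    · exfalso
      have h3 : t * rr ε i 0 * t⁻¹ = t * rr ε i j * t⁻¹ := h2.trans hr.symm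
      have h4 : rr ε i 0 = rr ε i j := mul_left_cancel (mul_right_cancel h3)
      exact hj (h.split.even.single_inj h.three (mul_left_cancel h4)).symm
    · exact Or.inl h2
    · right
      rw [h2]
      exact TSyl.dd_two h i j

/-- the member `R` -/
theorem exists_exM (hcv : cv (S : Subgroup G) P ≠ ⊥) (hij : i ≠ j)
    (hs : ∃ s ∈ (S : Subgroup G), Acts ε s (Equiv.swap i j)) (hw : ∃ w ∈ WP ε i j, Acts ε w (Equiv.swap i j))
    (hM : NonAb ε i j 0) (hc : TwoCen (rr ε i j)) : ∃ c R k, ExG S P (rr ε i j) c R k := by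
  by_cases h3 : 3 ≤ m
  · obtain ⟨T, hT⟩ := exists_tone h h3 hcv hij hs hw hM
    obtain ⟨hi, hj⟩ := ne_zero_of h hij hs
    obtain ⟨R, k, E⟩ := exists_exG h (mov_of h hij hw) hcv hij hi hj hT hc
    exact ⟨_, R, k, E⟩
  · obtain rfl : m = 2 := by have := h.m2; omega
    exact EndCMain.exists_two h hij hs hw hc

/-- **a moved line, `n` 2-central** -/
theorem pos_of_moved (hG : Ctx G) (hT : AllTyped (S : Subgroup G)) (hcv : cv (S : Subgroup G) P ≠ ⊥) (hij : i ≠ j)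
    (hs : ∃ s ∈ (S : Subgroup G), Acts ε s (Equiv.swap i j)) (hw : ∃ w ∈ WP ε i j, Acts ε w (Equiv.swap i j))
    (hM : NonAb ε i j 0) (hc : TwoCen (rr ε i j)) :
    ∃ (P V : Subgroup G) (ι : Type u) (R : ι → Subgroup G) (o : ι) (r z : G), HTwo.Entry.Pos S P V R o r z := by
  obtain ⟨c, R, k, E⟩ := exists_exM h hcv hij hs hw hM hc
  obtain ⟨g, hg, hne⟩ := hM
  have hgr : g * rr ε i j * g⁻¹ = rr ε i j := mem_NN'.1 hg
  refine NoWrFree.exists_pos hG S hT (E.nonFree_tt E hgr fun h0 => hne ?_) E.card E.card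
  rw [commutator_eq_bot_iff_le_centralizer] at h0
  have h1 := rr_V h i 0
  have h2 : g * rr ε i 0 * g⁻¹ ∈ (MulAut.conj g • zl (S : Subgroup G) P : Subgroup G) := csmul_mem h1
  exact (mem_centralizer_iff.mp (h0 h1) _ h2).symm

end one

/-- **Piece E, T-T** -/
theorem endTT : EndTT.{u} := by
  intro G _ _ hG S hT P₁ P₂ y m m' A ε A₂ ε₂ hm hm' hbig hl hc₁ hc₂ hall
  have hc := hG.char2
  obtain ⟨i, j, k, l, hij, hkl, hr, ⟨b, hb, hb1⟩, -, ⟨a, ha, ha1⟩, -⟩ := exists_common hc hl hm hm'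
  have s₁ : Pos.Sit S P₁ m A ε := ⟨hc, hl.pair.star₁, hm, hl.split⟩
  have s₂ : Pos.Sit S P₂ m' A₂ ε₂ := ⟨hc, hl.pair.star₂, hm', hl.split₂⟩
  have hw := wp_eq hr
  have hbS' : b ∈ (S : Subgroup G) := hl.le (map_mono hl.split₂.A_le hb)
  have haS' : y⁻¹ * a * y ∈ (S : Subgroup G) := mem_cj.mp (hl.ge (hl.split.A_le ha))
  have ha2' : Acts ε₂ (y⁻¹ * a * y) (Equiv.swap k l) := by
    rw [← acts_conj_label_iff y]
    have e : y * (y⁻¹ * a * y) * y⁻¹ = a := by group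
    rwa [e]
  obtain ⟨hi, hj⟩ := ne_zero_of s₁ hij ⟨b, hbS', hb1⟩
  obtain ⟨hk, hl0⟩ := ne_zero_of s₂ hkl ⟨_, haS', ha2'⟩
  rcases nonab hc hl hm hm' (Or.inl hc₁) hij hkl hr ⟨b, hb, hb1⟩ with hM | hM
  · replace hM := hM 0 hi.symm hj.symm
    have hbS : b ∈ (S : Subgroup G) := hl.le (map_mono hl.split₂.A_le hb)
    have hbW : b ∈ WP ε i j := by
      rw [hw]
      exact (s₂.fac.conj y).mem_wp hkl hb
    exact pos_of_moved s₁ hG hT hc₁ hij ⟨b, hbS, hb1⟩ ⟨b, hbW, hb1⟩ hM (hall i j)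
  · replace hM := hM 0 hk.symm hl0.symm
    have haS : y⁻¹ * a * y ∈ (S : Subgroup G) := mem_cj.mp (hl.ge (hl.split.A_le ha))
    have haW : y⁻¹ * a * y ∈ WP ε₂ k l := by
      refine Main.wp_cj ?_
      rw [← hw]
      exact s₁.fac.mem_wp hij ha
    have ha2 : Acts ε₂ (y⁻¹ * a * y) (Equiv.swap k l) := by
      rw [← acts_conj_label_iff y]
      have e : y * (y⁻¹ * a * y) * y⁻¹ = a := by group
      rwa [e]
    have hn₂ : y * rr ε₂ k l * y⁻¹ = rr ε i j := by rw [hr, rr_cj]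
    have hc2 : TwoCen (rr ε₂ k l) := by
      have h1 := (hall i j).conj y⁻¹
      have e : y⁻¹ * rr ε i j * y⁻¹⁻¹ = rr ε₂ k l := by rw [← hn₂]; group
      rwa [e] at h1
    exact pos_of_moved s₂ hG hT hc₂ hkl ⟨_, haS, ha2⟩ ⟨_, haW, ha2⟩ (nonAb_cj hM) hc2

/-- the dichotomy for a natural partner (helper300, `Syl/NatBoth.lean`) -/
def NatBoth : Prop :=
  ∀ (G : Type u) [Group G] [Finite G], IsCharacteristicTwoType G → ∀ (S : Sylow 2 G) (P₁ P₂ : Subgroup G) (y : G)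
    (m : ℕ) (A : Subgroup G) (ε : (Fin (2 ^ m + 1) → ZMod 2) → G), 2 ≤ m → LabZ S P₁ P₂ y m A ε →
    IsNat (S : Subgroup G) P₂ 1 → cv (S : Subgroup G) P₁ ≠ ⊥ → ∀ i j : Fin (2 ^ m + 1), i ≠ j →
      (∃ b ∈ cj y (zl (S : Subgroup G) P₂), Acts ε b (Equiv.swap i j)) →
        (∀ o, o ≠ i → o ≠ j → NonAb ε i j o) ∨ ∃ g, Mutual (S : Subgroup G) P₂ P₂ g

/-- **Piece E, natural partner** -/
theorem endNat_of (hB : NatBoth.{u}) : EndNat.{u} := by
  intro G _ _ hG S hT P₁ P₂ y m A ε hm hl hN hc₁ hc₂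
  have hc := hG.char2
  have hm2 : 2 ≤ m := by omega
  obtain ⟨cz1, cz2⟩ := NatStep.natStep G hc S P₁ P₂ y m A ε hm2 hl hN
  have hN' := hN
  obtain ⟨F, i1, i2, i3, ⟨M⟩⟩ := hN
  have hF := F4Leaf.NatStep.card_F hc hm2 hl M
  have hev := hl.split.even
  have hP₁ := hl.pair.star₁
  have hP₂ := hl.pair.star₂
  have s₁ : Pos.Sit S P₁ m A ε := ⟨hc, hP₁, hm2, hl.split⟩
  obtain ⟨r, hr, hrw⟩ := Cen.Entry.nat_two hc hP₂ M hF
  obtain ⟨b, hb, i, j, hij, hbs⟩ := S5.Nat.exists_swap hev hl.side (Cen.Entry.not_le_cent hc hl)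
  have e0 := hbs.single i
  rw [Equiv.swap_apply_left] at e0
  have hne1 : rr ε i j ≠ 1 := rr_ne_one hev s₁.three hij
  have hrr : rr ε i j * rr ε i j = 1 := rr_sq hev i j
  -- `S^y` acts on `V'`
  have hact : ∀ q ∈ cj y (S : Subgroup G), ∀ w ∈ cj y (zl (S : Subgroup G) P₂),
      q * w * q⁻¹ = w ∨ q * w * q⁻¹ = (y * r * y⁻¹) * w := by
    intro q hq w hw
    rcases hrw _ (mem_cj.1 hq) _ (mem_cj.1 hw) with h1 | h1
    · left
      calc q * w * q⁻¹ = y * (y⁻¹ * q * y * (y⁻¹ * w * y) * (y⁻¹ * q * y)⁻¹) * y⁻¹ := by group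
        _ = w := by rw [h1]; group
    · right
      calc q * w * q⁻¹ = y * (y⁻¹ * q * y * (y⁻¹ * w * y) * (y⁻¹ * q * y)⁻¹) * y⁻¹ := by group
        _ = (y * r * y⁻¹) * w := by rw [h1]; group
  -- `n = r^y`
  have hnr : rr ε i j = y * r * y⁻¹ := by
    have h0 : zz ε i ∈ zl (S : Subgroup G) P₁ := hl.split.A_le (zz_mem hev i)
    have h2 : zz ε i * b * (zz ε i)⁻¹ * b⁻¹ = rr ε i j := by
      rw [show (zz ε i)⁻¹ = zz ε i from hev.inv _, rr]
      calc zz ε i * b * zz ε i * b⁻¹ = zz ε i * (b * zz ε i * b⁻¹) := by group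
        _ = zz ε i * zz ε j := by rw [show b * zz ε i * b⁻¹ = zz ε j from e0]
    rcases hact _ (hl.ge h0) b hb with h1 | h1
    · rw [h1, mul_inv_cancel] at h2
      exact absurd h2.symm hne1
    · rw [h1, mul_inv_cancel_right] at h2
      exact h2.symm
  have hSn : ∀ q ∈ cj y (S : Subgroup G), q * rr ε i j * q⁻¹ = rr ε i j := by
    intro q hq
    have h1 : (y⁻¹ * q * y) * r * (y⁻¹ * q * y)⁻¹ = r := comm_iff.2 ((mem_zc.1 hr).2.1 _ (mem_cj.1 hq))
    rw [hnr]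
    calc q * (y * r * y⁻¹) * q⁻¹ = y * ((y⁻¹ * q * y) * r * (y⁻¹ * q * y)⁻¹) * y⁻¹ := by group
      _ = y * r * y⁻¹ := by rw [h1]
  have hSn' : ((y • S : Sylow 2 G) : Subgroup G) ≤ centralizer {rr ε i j} := by
    intro x hx
    rw [mem_smul] at hx
    exact mem_cent.2 (hSn x (mem_cj.2 hx))
  have hcen : TwoCen (rr ε i j) := ⟨y • S, hSn'⟩
  have hQS : ∀ q ∈ o2 (centralizer ({rr ε i j} : Set G)), q ∈ cj y (S : Subgroup G) := by
    intro q hq
    have h2 := o2_le_of_sylow (y • S : Sylow 2 G).isPGroup'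
      (MinSimple.Basic.not_dvd_relIndex (y • S : Sylow 2 G) hSn') hq
    rw [mem_cj]
    exact mem_smul.1 h2
  have hQW : ∀ q ∈ o2 (centralizer ({rr ε i j} : Set G)), ∀ w ∈ cj y (zl (S : Subgroup G) P₂),
      q * w * q⁻¹ = w ∨ q * w * q⁻¹ = rr ε i j * w := by
    intro q hq w hw
    rw [hnr]
    exact hact q (hQS q hq) w hw
  have hWQ : cj y (zl (S : Subgroup G) P₂) ≤ o2 (centralizer ({rr ε i j} : Set G)) := by
    intro w hw
    have hwS : w ∈ cj y (S : Subgroup G) := by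
      rw [mem_cj] at hw ⊢
      exact ((hP₂.isLoc.zl_le S hc).trans (zc_le _)).trans (hP₂.isLoc.o2_le S) hw
    refine S5.Mod.le_o2_of_comm hc (by rw [sq]; exact hrr) hne1 (comm_iff.1 (hSn w hwS)) fun q hq => ?_
    rcases hQW q hq w hw with h1 | h1
    · left
      rw [comm_iff] at h1
      calc w * q * w⁻¹ * q⁻¹ = (q * w) * w⁻¹ * q⁻¹ := by rw [h1]
        _ = 1 := by group
    · right
      have h2 : q * w = rr ε i j * w * q := by rw [← h1]; group
      calc w * q * w⁻¹ * q⁻¹ = rr ε i j * rr ε i j * w * q * w⁻¹ * q⁻¹ := by rw [hrr, one_mul]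
        _ = rr ε i j * (rr ε i j * w * q) * w⁻¹ * q⁻¹ := by group
        _ = rr ε i j * (q * w) * w⁻¹ * q⁻¹ := by rw [h2]
        _ = rr ε i j := by group
  have hbQ := hWQ hb
  have hbW : b ∈ WP ε i j := by
    refine mem_WP.2 ⟨o2_le _ hbQ, fun q hq => ?_⟩
    rcases hQW q hq b hb with h1 | h1
    · have h2 : b * q * b⁻¹ * q⁻¹ = 1 := by
        rw [comm_iff] at h1
        calc b * q * b⁻¹ * q⁻¹ = (q * b) * b⁻¹ * q⁻¹ := by rw [h1]
          _ = 1 := by group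
      rw [h2]
      exact one_mem _
    · have h2 : q * b = rr ε i j * b * q := by rw [← h1]; group
      have h3 : b * q * b⁻¹ * q⁻¹ = rr ε i j := by
        calc b * q * b⁻¹ * q⁻¹ = rr ε i j * rr ε i j * b * q * b⁻¹ * q⁻¹ := by rw [hrr, one_mul]
          _ = rr ε i j * (rr ε i j * b * q) * b⁻¹ * q⁻¹ := by group
          _ = rr ε i j * (q * b) * b⁻¹ * q⁻¹ := by rw [h2]
          _ = rr ε i j := by group
      rw [h3]
      exact mem_zpowers _
  obtain ⟨hi, hj⟩ := ne_zero_of s₁ hij ⟨b, hl.le hb, hbs⟩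
  rcases hB G hc S P₁ P₂ y m A ε hm2 hl hN' hc₁ i j hij ⟨b, hb, hbs⟩ with hM | ⟨g, hg⟩
  · exact pos_of_moved s₁ hG hT hc₁ hij ⟨b, hl.le hb, hbs⟩ ⟨b, hbW, hbs⟩ (hM 0 hi.symm hj.symm) hcen
  · exact NoWrFree.exists_pos hG S hT ⟨hg, hc₂, hc₂⟩ (by omega) (by omega)

end Cfsg.Agent.Omega.F4Leaf.Syl.EndCPure

end
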